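import Mathlib
import Cfsg.Prelude.Def_Blocks
import Cfsg.Agent.Blocks.Local
import Cfsg.Agent.Blocks.Basic
import Cfsg.Agent.Blocks.Central
import Cfsg.Agent.Blocks.MinMax
import Cfsg.Agent.Blocks.OrbitSum
import Cfsg.Agent.Characters.Core
import Cfsg.Agent.S0907
import Cfsg.Agent.S0913

/-!
# Real `2`-blocks of full defect

* `sum_sub_sum_centralizer` : a sum over `G` of a `P`-invariant local-integral function is congruent
  modulo the local ideal to the sum over `C_G(P)` (`P` a `p`-subgroup).
* `mem_principalBlock_of_sameBlock_conj` (Gow): an irreducible character of odd degree which lies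
  in the same `2`-block as its complex conjugate lies in the principal `2`-block; in particular
  (`mem_principalBlock_of_real`) a real-valued irreducible character of odd degree does.
-/

set_option autoImplicit false

namespace Cfsg.Agent.H625.Real

open Cfsg Cfsg.Agent.Blocks.Local Cfsg.Agent.Blocks.Basic Cfsg.Agent.Blocks.ConvCentral
  Cfsg.Agent.Blocks.MinMax
open scoped ComplexConjugate

variable {G : Type*} [Group G]

/-- Local-integral functions invariant under a `p`-subgroup: the sum over `G` is congruent to the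
sum over the centralizer of the subgroup. -/
theorem sum_sub_sum_centralizer [Fintype G] {p : ℕ} [Fact p.Prime] {M : Ideal AlgInt}
    (hM : IsPModular p M) (P : Subgroup G) (hP : IsPGroup p P) (f : G → ℂ)
    (hf : ∀ u ∈ P, ∀ x : G, f (u * x * u⁻¹) = f x) (hR : ∀ x, MemLocalRing M (f x))
    [DecidablePred (· ∈ Subgroup.centralizer (P : Set G))] :
    MemLocalIdeal M (∑ x, f x -
      ∑ x ∈ Finset.univ.filter (· ∈ Subgroup.centralizer (P : Set G)), f x) := by
  have hMp : M.IsPrime := isPrime_of_isPModular hM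
  obtain ⟨a, ha⟩ := Cfsg.Agent.Blocks.OrbitSum.sum_eq_sum_centralizer_add_smul (A := localRing M)
    (p := p) P hP (fun x => ⟨f x, hR x⟩) (fun u hu x => Subtype.ext (hf u hu x))
  have h := congrArg (fun z : localRing M => (z : ℂ)) ha
  simp only [nsmul_eq_mul, AddSubmonoidClass.coe_finsetSum, Subring.coe_add, Subring.coe_mul,
    Subring.coe_natCast] at h
  rw [h, add_sub_cancel_left]
  exact memLocalIdeal_mul_right (memLocalIdeal_p hM) a.2

/-- The conjugate of an irreducible character. -/
noncomputable def conjI [Finite G] (χ : IrrCharacter G) : IrrCharacter G :=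
  ⟨fun g => conj ((χ : G → ℂ) g), Cfsg.Agent.Characters.Core.isIrr_conj χ.2⟩

theorem conjI_apply [Finite G] (χ : IrrCharacter G) (g : G) :
    (conjI χ : G → ℂ) g = conj ((χ : G → ℂ) g) := rfl

theorem conjI_conjI [Finite G] (χ : IrrCharacter G) : conjI (conjI χ) = χ :=
  Subtype.ext (funext fun g => by rw [conjI_apply, conjI_apply, Complex.conj_conj])

theorem apply_inv [Finite G] (χ : IrrCharacter G) (g : G) :
    (χ : G → ℂ) g⁻¹ = conj ((χ : G → ℂ) g) :=
  Cfsg.Agent.Characters.Core.isCharacter_apply_inv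
    (Cfsg.Agent.Characters.Core.isIrr_isCharacter χ.2) g

theorem conjI_apply_one [Finite G] (χ : IrrCharacter G) :
    (conjI χ : G → ℂ) 1 = (χ : G → ℂ) 1 := by
  rw [conjI_apply, ← apply_inv, inv_one]

theorem centralizer_inv (g : G) :
    Subgroup.centralizer ({g⁻¹} : Set G) = Subgroup.centralizer ({g} : Set G) := by
  ext x
  rw [Subgroup.mem_centralizer_singleton_iff, Subgroup.mem_centralizer_singleton_iff]
  constructor
  · intro h
    have := (show Commute x g⁻¹ from h).inv_right
    rwa [inv_inv] at this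
  · intro h
    exact (show Commute x g from h).inv_right

theorem centralChar_conjI [Finite G] (χ : IrrCharacter G) (g : G) :
    centralChar (conjI χ : G → ℂ) g = centralChar (χ : G → ℂ) g⁻¹ := by
  rw [centralChar_def, centralChar_def, conjI_apply_one, conjI_apply, apply_inv, centralizer_inv]

theorem sameBlock_conjI [Finite G] {M : Ideal AlgInt} {χ ψ : IrrCharacter G}
    (h : SameBlock M (χ : G → ℂ) (ψ : G → ℂ)) :
    SameBlock M (conjI χ : G → ℂ) (conjI ψ : G → ℂ) := by
  intro g
  rw [centralChar_conjI, centralChar_conjI]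
  exact h g⁻¹

/-- A block containing a character in the same block as its conjugate is closed under
conjugation. -/
theorem conjI_mem [Finite G] {M : Ideal AlgInt} [M.IsPrime] {B : Set (IrrCharacter G)}
    (hB : IsPBlock M B) {χ : IrrCharacter G} (hχ : χ ∈ B)
    (h : SameBlock M (χ : G → ℂ) (conjI χ : G → ℂ)) {ψ : IrrCharacter G} (hψ : ψ ∈ B) :
    conjI ψ ∈ B := by
  have h1 := isPBlock_sameBlock hB hχ hψ
  exact isPBlock_mem_of_sameBlock hB hχ (sameBlock_trans h (sameBlock_conjI h1))

theorem blockCoeff_inv [Finite G] {B : Set (IrrCharacter G)}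
    (hconj : ∀ ψ ∈ B, conjI ψ ∈ B) (g : G) : blockCoeff B g⁻¹ = blockCoeff B g := by
  rw [blockCoeff_def, blockCoeff_def]
  congr 1
  refine finsum_mem_eq_of_bijOn conjI ⟨fun ψ hψ => hconj ψ hψ, ?_, ?_⟩ fun ψ _ => ?_
  · intro a _ b _ hab
    rw [← conjI_conjI a, hab, conjI_conjI]
  · intro ψ hψ
    exact ⟨conjI ψ, hconj ψ hψ, conjI_conjI ψ⟩
  · rw [conjI_apply_one, conjI_apply, apply_inv]

theorem blockCoeff_eq_zero [Finite G] {p : ℕ} [Fact p.Prime] {M : Ideal AlgInt}
    (hM : IsPModular p M) {B : Set (IrrCharacter G)} (hB : IsPBlock M B) {g : G}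
    (hg : p ∣ orderOf g) : blockCoeff B g = 0 := by
  rw [blockCoeff_def, Cfsg.Agent.S0907.result p M hM B hB 1 g (by
    rw [orderOf_one]
    exact (Fact.out : p.Prime).one_lt.ne' ∘ Nat.dvd_one.1) hg, mul_zero]

theorem not_dvd_index_centralizer [Finite G] {p : ℕ} [Fact p.Prime] (P : Sylow p G) {g : G}
    (hg : g ∈ Subgroup.centralizer ((P : Subgroup G) : Set G)) :
    ¬ p ∣ (Subgroup.centralizer ({g} : Set G)).index := by
  have hle : (P : Subgroup G) ≤ Subgroup.centralizer ({g} : Set G) := by
    intro x hx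
    rw [Subgroup.mem_centralizer_singleton_iff]
    exact (Subgroup.mem_centralizer_iff.1 hg x hx)
  intro h
  exact P.not_dvd_index (h.trans (Subgroup.index_dvd_of_le hle))

/-- For a block `B` with `a_B(g⁻¹) = a_B(g)` and a character `ψ` of odd degree in the same block as
its conjugate, the central character of `ψ` at the block idempotent is congruent to `a_B(1)`. -/
theorem redC_omega [Fintype G] {M : Ideal AlgInt} [M.IsPrime] (hM : IsPModular 2 M)
    {B : Set (IrrCharacter G)} (hB : IsPBlock M B)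
    (hinv : ∀ g, blockCoeff B g⁻¹ = blockCoeff B g) (ψ : IrrCharacter G)
    (hodd : Odd (charDegree (ψ : G → ℂ)))
    (hsame : SameBlock M (ψ : G → ℂ) (conjI ψ : G → ℂ)) :
    redC M (omega (ψ : G → ℂ) (blockCoeff B)) = redC M (blockCoeff B 1) := by
  classical
  have : Fact (Nat.Prime 2) := ⟨Nat.prime_two⟩
  obtain ⟨P⟩ : Nonempty (Sylow 2 G) := inferInstance
  set a := blockCoeff B with ha
  have haR : ∀ g, MemLocalRing M (a g) := fun g => Cfsg.Agent.S0913.result 2 M hM B hB g
  have hdeg : (ψ : G → ℂ) 1 = (charDegree (ψ : G → ℂ) : ℂ) := irr_one_eq_charDegree ψ.2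
  have hndvd : ¬ 2 ∣ charDegree (ψ : G → ℂ) := by
    rw [← even_iff_two_dvd]; exact Nat.not_even_iff_odd.2 hodd
  have hne : (ψ : G → ℂ) 1 ≠ 0 := Cfsg.Agent.Blocks.Basic.irr_one_ne_zero ψ.2
  have hunit : MemLocalRing M ((ψ : G → ℂ) 1)⁻¹ := by
    rw [hdeg]; exact memLocalRing_inv_natCast hM hndvd
  have hψR : ∀ g, MemLocalRing M ((ψ : G → ℂ) g / (ψ : G → ℂ) 1) := by
    intro g
    rw [div_eq_mul_inv]
    refine memLocalRing_mul (memLocalRing_of_isIntegral ?_) hunit
    exact Cfsg.Agent.Blocks.Central.isIntegral_irr ψ.2 g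
  let f : G → ℂ := fun g => a g * ((ψ : G → ℂ) g / (ψ : G → ℂ) 1)
  have hfR : ∀ g, MemLocalRing M (f g) := fun g => memLocalRing_mul (haR g) (hψR g)
  have hom : omega (ψ : G → ℂ) a = ∑ g, f g := by
    rw [omega_def, lin_def, Finset.sum_div]
    refine Finset.sum_congr rfl fun g _ => ?_
    simp only [f]
    ring
  have hfinv : ∀ u ∈ (P : Subgroup G), ∀ x : G, f (u * x * u⁻¹) = f x := by
    intro u _ x
    simp only [f]
    rw [irr_conj ψ.2, ha, isClassFunction_blockCoeff B x u]
  have h1 := sum_sub_sum_centralizer hM (P : Subgroup G) P.isPGroup' f hfinv hfR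
  set C := Finset.univ.filter (· ∈ Subgroup.centralizer ((P : Subgroup G) : Set G)) with hC
  -- drop the elements of even order
  have h2 : ∑ x ∈ C, f x = ∑ x ∈ C.filter (fun x => ¬ 2 ∣ orderOf x), f x := by
    rw [Finset.sum_filter (s := C)]
    refine Finset.sum_congr rfl fun x _ => ?_
    split_ifs with h
    · simp only [f]
      rw [ha, blockCoeff_eq_zero hM hB h, zero_mul]
    · rfl
  set S := C.filter (fun x => ¬ 2 ∣ orderOf x) with hS
  have hmemS : ∀ x, x ∈ S ↔ x ∈ Subgroup.centralizer ((P : Subgroup G) : Set G) ∧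
      ¬ 2 ∣ orderOf x := by
    intro x
    simp [hS, hC]
  have h1S : (1 : G) ∈ S := by
    rw [hmemS]
    refine ⟨one_mem _, ?_⟩
    rw [orderOf_one]; norm_num
  -- pairs cancel
  have hpair : ∀ x ∈ S.erase 1, redC M (f x) + redC M (f x⁻¹) = 0 := by
    intro x hx
    have hxS := (hmemS x).1 (Finset.mem_of_mem_erase hx)
    rw [← redC_add (hfR x) (hfR x⁻¹), redC_eq_zero_iff (memLocalRing_add (hfR x) (hfR x⁻¹))]
    have e1 : f x + f x⁻¹ = a x * (((ψ : G → ℂ) x - (ψ : G → ℂ) x⁻¹) / (ψ : G → ℂ) 1 +
        2 * ((ψ : G → ℂ) x⁻¹ / (ψ : G → ℂ) 1)) := by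
      simp only [f]
      rw [hinv x]
      ring
    rw [e1]
    refine memLocalIdeal_mul_left (haR x) (memLocalIdeal_add ?_ ?_)
    · have h3 := hsame x
      rw [centralChar_conjI, centralChar_def, centralChar_def, centralizer_inv] at h3
      set k := (Subgroup.centralizer ({x} : Set G)).index
      have hk : ¬ 2 ∣ k := not_dvd_index_centralizer P hxS.1
      have h4 : ((ψ : G → ℂ) x - (ψ : G → ℂ) x⁻¹) / (ψ : G → ℂ) 1 =
          (k : ℂ)⁻¹ * ((k : ℂ) * (ψ : G → ℂ) x / (ψ : G → ℂ) 1 -
            (k : ℂ) * (ψ : G → ℂ) x⁻¹ / (ψ : G → ℂ) 1) := by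
        have hk0 : (k : ℂ) ≠ 0 := by
          intro h0
          apply hk
          have : k = 0 := by exact_mod_cast h0
          rw [this]; exact dvd_zero 2
        field_simp
      rw [h4]
      exact memLocalIdeal_mul_left (memLocalRing_inv_natCast hM hk) h3
    · exact memLocalIdeal_mul_right (memLocalIdeal_p (p := 2) hM) (hψR _)
  have hsum0 : ∑ x ∈ S.erase 1, redC M (f x) = 0 := by
    refine Finset.sum_involution (fun x _ => x⁻¹) hpair ?_ ?_ ?_
    · intro x hx _ hxx
      have hx2 : x ^ 2 = 1 := by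
        rw [pow_two]
        nth_rewrite 1 [← hxx]
        exact inv_mul_cancel x
      have hdvd : orderOf x ∣ 2 := orderOf_dvd_of_pow_eq_one hx2
      rcases (Nat.dvd_prime Nat.prime_two).1 hdvd with h | h
      · exact (Finset.mem_erase.1 hx).1 (orderOf_eq_one_iff.1 h)
      · exact ((hmemS x).1 (Finset.mem_of_mem_erase hx)).2 (by rw [h])
    · intro x hx
      rw [Finset.mem_erase, hmemS] at hx ⊢
      refine ⟨inv_ne_one.2 hx.1, inv_mem hx.2.1, ?_⟩
      rw [orderOf_inv]
      exact hx.2.2
    · intro x _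
      exact inv_inv x
  have h5 : redC M (∑ g, f g) = redC M (∑ x ∈ S, f x) := by
    rw [redC_eq_iff (memLocalRing_sum fun x _ => hfR x) (memLocalRing_sum fun x _ => hfR x),
      ← h2]
    exact h1
  rw [hom, h5, redC_sum (fun x _ => hfR x), ← Finset.add_sum_erase S _ h1S, hsum0, add_zero]
  simp only [f]
  rw [div_self hne, mul_one]

/-- **Gow.** An irreducible character of odd degree which lies in the same `2`-block as its complex
conjugate lies in the principal `2`-block. -/
theorem mem_principalBlock_of_sameBlock_conj [Finite G] {M : Ideal AlgInt} (hM : IsPModular 2 M)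
    (χ : IrrCharacter G) (hodd : Odd (charDegree (χ : G → ℂ)))
    (h : SameBlock M (χ : G → ℂ) (conjI χ : G → ℂ)) : χ ∈ principalBlock M G := by
  classical
  have := Fintype.ofFinite G
  have hMp : M.IsPrime := isPrime_of_isPModular hM
  set B := blockOf M (χ : G → ℂ) with hBdef
  have hB : IsPBlock M B := isPBlock_blockOf χ
  have hχ : χ ∈ B := mem_blockOf_self χ
  have hinv : ∀ g, blockCoeff B g⁻¹ = blockCoeff B g :=
    blockCoeff_inv fun ψ hψ => conjI_mem hB hχ h hψ
  have e1 := redC_omega hM hB hinv χ hodd h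
  rw [omega_blockCoeff, if_pos hχ, redC_one] at e1
  let one : IrrCharacter G := ⟨fun _ => 1, isIrrCharacter_one⟩
  have hone : (one : G → ℂ) = fun _ => 1 := rfl
  have e2 := redC_omega hM hB hinv one (by
    rw [charDegree_of_eq (n := 1) (by rw [hone]; simp)]
    exact odd_one) (by
      have : conjI one = one := Subtype.ext (funext fun g => by
        rw [conjI_apply, hone, map_one])
      rw [this]
      exact sameBlock_refl _)
  rw [omega_blockCoeff] at e2
  by_cases h1 : one ∈ B
  · exact sameBlock_symm h1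
  · rw [if_neg h1, ← e1, redC_zero] at e2
    exact absurd e2.symm one_ne_zero

/-- A real-valued irreducible character of odd degree lies in the principal `2`-block. -/
theorem mem_principalBlock_of_real [Finite G] {M : Ideal AlgInt} (hM : IsPModular 2 M)
    (χ : IrrCharacter G) (hodd : Odd (charDegree (χ : G → ℂ)))
    (hreal : ∀ g, conj ((χ : G → ℂ) g) = (χ : G → ℂ) g) : χ ∈ principalBlock M G := by
  have hMp : M.IsPrime := isPrime_of_isPModular hM
  refine mem_principalBlock_of_sameBlock_conj hM χ hodd ?_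
  have : conjI χ = χ := Subtype.ext (funext hreal)
  rw [this]
  exact sameBlock_refl _

end Cfsg.Agent.H625.Real
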