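import Cfsg.Agent.H625.PSolvOne
import Cfsg.Agent.H670.PSolv
import Cfsg.Agent.Blocks.CentralInvolutionCount
import Cfsg.Agent.CharactersDeep.SmallDegree
import Cfsg.Agent.S0856
import Cfsg.Agent.S0887
import Cfsg.Agent.S5001

/-!
# The projective height zero conjecture for `p`-solvable groups: reduction (helper625)

* `Over lam χ` : the character `χ` of `G` lies over the linear character `lam` of the central subgroup `Z`;
* `not_dvd_of_ext` : the easy direction over a `G`-invariant character of `O_{p'}(G)`;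
* `main` : the statement, given the theorem of Gluck and Wolf (S4900).
-/

set_option autoImplicit false

open Cfsg
open scoped ComplexConjugate commutatorElement

namespace Cfsg.Agent.H625.PHZ

open Cfsg.Agent.Characters.Core Cfsg.Agent.OddOrderCharacters.IndRes
  Cfsg.Agent.OddOrderCharacters.PF9.CliffGen Cfsg.Agent.Blocks.Knorr
  Cfsg.Agent.OddOrderCharacters.NormalInduced Cfsg.Agent.CharactersDeep.SmallDegree

universe u

section ovr

variable {G : Type u} [Group G] {Z : Subgroup G}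

/-- `χ` lies over the linear character `lam` of `Z`. -/
def Over (lam : Z →* ℂˣ) (χ : G → ℂ) : Prop := ∀ z : Z, χ z = χ 1 * (lam z : ℂ)

/-- Central elements and constituents. -/
theorem central_eq [Finite G] (K : Subgroup G) [Fintype K] {χ : G → ℂ} (hχ : IsIrrCharacter G χ)
    {θ : K → ℂ} (hθ : IsIrrCharacter K θ) (h : classInner (res K χ) θ ≠ 0) {z : G}
    (hz : z ∈ Subgroup.center G) (hzK : z ∈ K) : χ z * θ 1 = χ 1 * θ ⟨z, hzK⟩ := by
  have hz1 : ∀ g, g * z = z * g := Subgroup.mem_center_iff.1 hz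
  obtain ⟨ω₁, -, h1⟩ := exists_central_mul hχ hz1
  obtain ⟨ω₂, hω₂, h2⟩ := exists_central_mul hθ (z := ⟨z, hzK⟩) (fun g => Subtype.ext (hz1 g))
  have h3 : classInner (res K χ) θ = (ω₁ * conj ω₂) * classInner (res K χ) θ := by
    have h6 : ∑ k : K, res K χ k * conj (θ k) = (ω₁ * conj ω₂) * ∑ k : K, res K χ k * conj (θ k) := by
      rw [Finset.mul_sum, ← Equiv.sum_comp (Equiv.mulRight (⟨z, hzK⟩ : K))]
      refine Finset.sum_congr rfl fun k _ => ?_
      simp only [Equiv.coe_mulRight, res_apply, Subgroup.coe_mul, h1, h2, map_mul]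
      ring
    rw [classInner_def]
    conv_lhs => rw [h6]
    ring
  have h4 : ω₁ * conj ω₂ = 1 := mul_right_cancel₀ h (by rw [one_mul]; exact h3.symm)
  have h5 : ω₂ * conj ω₂ = 1 := by
    rw [Complex.mul_conj, Complex.normSq_eq_norm_sq, hω₂]; norm_num
  have h6 : ω₁ = ω₂ := by
    have h7 : conj ω₂ ≠ 0 := by
      intro h0
      rw [h0, mul_zero] at h5
      exact zero_ne_one h5
    exact mul_right_cancel₀ h7 (h4.trans h5.symm)
  have h8 := h1 1
  have h9 := h2 1
  rw [one_mul] at h8 h9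
  rw [h8, h9, h6]
  ring

theorem over_iff [Finite G] (hZ : Z ≤ Subgroup.center G) (K : Subgroup G) [Fintype K] (hZK : Z ≤ K)
    {χ : G → ℂ} (hχ : IsIrrCharacter G χ)
    {θ : K → ℂ} (hθ : IsIrrCharacter K θ) (h : classInner (res K χ) θ ≠ 0) (lam : Z →* ℂˣ) :
    Over lam χ ↔ ∀ z : Z, θ ⟨z, hZK z.2⟩ = θ 1 * (lam z : ℂ) := by
  have hχ1 := isIrr_apply_one_ne_zero hχ
  have hθ1 := isIrr_apply_one_ne_zero hθ
  refine forall_congr' fun z => ?_
  have h1 := central_eq K hχ hθ h (hZ z.2) (hZK z.2)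
  constructor
  · intro h2
    rw [h2] at h1
    apply mul_left_cancel₀ hχ1
    rw [← h1]; ring
  · intro h2
    rw [h2] at h1
    apply mul_right_cancel₀ hθ1
    rw [h1]; ring

end ovr

section ind

variable {G : Type u} [Group G] [Fintype G]

/-- Restriction of an induced linear character to a normal subgroup meeting the subgroup trivially. -/
theorem ind_apply (N H : Subgroup G) [hN : N.Normal] [Fintype H] (hNH : N ⊓ H = ⊥) (μ : H →* ℂˣ)
    {n : G} (hn : n ∈ N) (h1 : n ≠ 1) : indFun H (fun x => (μ x : ℂ)) n = 0 := by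
  rw [indFun_apply]
  have h2 : ∀ x : G, extendByZero H (fun x => (μ x : ℂ)) (x⁻¹ * n * x) = 0 := by
    intro x
    unfold extendByZero
    apply Function.extend_apply'
    rintro ⟨y, hy⟩
    have h3 : x⁻¹ * n * x ∈ N := by
      have := hN.conj_mem n hn x⁻¹
      rwa [inv_inv] at this
    have h4 : x⁻¹ * n * x ∈ N ⊓ H := ⟨h3, hy ▸ y.2⟩
    rw [hNH, Subgroup.mem_bot] at h4
    apply h1
    have h5 : n = x * (x⁻¹ * n * x) * x⁻¹ := by group
    rw [h5, h4]; group
  rw [Finset.sum_congr rfl fun x _ => h2 x]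
  simp

/-- The multiplicities in an induced character and in the restriction to a normal subgroup. -/
theorem sum_mult (N H : Subgroup G) [N.Normal] [Fintype N] [Fintype H] (hNH : N ⊓ H = ⊥) (μ : H →* ℂˣ)
    {θ : N → ℂ} (hθ : IsIrrCharacter N θ) [Fintype (IrrCharacter G)] :
    ∃ m e : IrrCharacter G → ℕ, (∀ χ : IrrCharacter G, classInner (indFun H (fun x => (μ x : ℂ))) (χ : G → ℂ) = m χ) ∧
      (∀ χ : IrrCharacter G, classInner (res N (χ : G → ℂ)) θ = e χ) ∧
      Nat.card N * ∑ χ, m χ * e χ = H.index * charDegree θ := by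
  classical
  have hμ : IsCharacter H (fun x => (μ x : ℂ)) := Characters.Linear.isCharacter_hom μ
  have hind : IsCharacter G (indFun H (fun x => (μ x : ℂ))) := isCharacter_indFun H hμ
  obtain ⟨m, hm⟩ := isCharacter_iff.1 hind
  have he : ∀ χ : IrrCharacter G, ∃ e : ℕ, classInner (res N (χ : G → ℂ)) θ = e := fun χ =>
    classInner_isNat (isCharacter_res N (isIrr_isCharacter χ.2)) (isIrr_isCharacter hθ)
  choose e he using he
  refine ⟨m, e, ?_, he, ?_⟩
  · intro χ
    rw [hm, classInner_sum_nsmul_irr]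
  · have h1 : classInner (res N (indFun H (fun x => (μ x : ℂ)))) θ = ∑ χ : IrrCharacter G, (m χ : ℂ) * e χ := by
      have h2 : res N (indFun H (fun x => (μ x : ℂ))) = ∑ χ : IrrCharacter G, (m χ : ℂ) • res N (χ : G → ℂ) := by
        funext n
        rw [res_apply, hm, Finset.sum_apply, Finset.sum_apply]
        refine Finset.sum_congr rfl fun ψ _ => ?_
        rw [Pi.smul_apply, Pi.smul_apply, nsmul_eq_mul, smul_eq_mul, res_apply]
      rw [h2, classInner_sum_left]
      refine Finset.sum_congr rfl fun χ _ => ?_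
      rw [classInner_smul_left, he]
    have h3 : classInner (res N (indFun H (fun x => (μ x : ℂ)))) θ =
        (Nat.card N : ℂ)⁻¹ * (H.index * charDegree θ) := by
      rw [classInner_def]
      congr 1
      rw [Finset.sum_eq_single 1]
      · have h4 : res N (indFun H (fun x => (μ x : ℂ))) 1 = H.index := by
          show indFun H (fun x => (μ x : ℂ)) 1 = H.index
          rw [indFun_apply_one]
          simp
        rw [h4, charDegree_eq hθ, Complex.conj_natCast]
      · intro n _ hn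
        have h4 : res N (indFun H (fun x => (μ x : ℂ))) n = 0 :=
          ind_apply N H hNH μ n.2 (fun h => hn (Subtype.ext h))
        rw [h4, zero_mul]
      · intro h
        exact absurd (Finset.mem_univ _) h
    have hN0 : (Nat.card N : ℂ) ≠ 0 := card_ne_zero_complex
    have h5 : (Nat.card N : ℂ) * ∑ χ : IrrCharacter G, (m χ : ℂ) * e χ = H.index * charDegree θ := by
      rw [← h1, h3, mul_inv_cancel_left₀ hN0]
    exact_mod_cast h5

/-- Constituents of the induced character. -/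
theorem over_of_ind {Z : Subgroup G} (hZ : Z ≤ Subgroup.center G) (H : Subgroup G) [Fintype H] (hZH : Z ≤ H)
    (μ : H →* ℂˣ) {χ : G → ℂ} (hχ : IsIrrCharacter G χ)
    (h : classInner (indFun H (fun x => (μ x : ℂ))) χ ≠ 0) (lam : Z →* ℂˣ)
    (hμ : ∀ z : Z, μ ⟨z, hZH z.2⟩ = lam z) : Over lam χ := by
  rw [classInner_res_symm H (Characters.Linear.isCharacter_hom μ) (isIrr_isCharacter hχ)] at h
  rw [over_iff hZ H hZH hχ (Characters.Linear.isIrrCharacter_hom μ) h]
  intro z
  rw [hμ z, map_one, Units.val_one, one_mul]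

/-- Some irreducible character lies over `θ` and over `lam`. -/
theorem exists_both {N Z : Subgroup G} [N.Normal] [Fintype N] (hZ : Z ≤ Subgroup.center G)
    (hNZ : N ⊓ Z = ⊥) {θ : N → ℂ} (hθ : IsIrrCharacter N θ) (lam : Z →* ℂˣ) :
    ∃ χ : IrrCharacter G, classInner (res N (χ : G → ℂ)) θ ≠ 0 ∧ Over lam (χ : G → ℂ) := by
  classical
  have : Finite (IrrCharacter G) := finite_irr
  have : Fintype (IrrCharacter G) := Fintype.ofFinite _
  have : Fintype Z := Fintype.ofFinite _
  obtain ⟨m, e, hm, he, hs⟩ := sum_mult N Z hNZ lam hθ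
  have h1 : ∑ χ, m χ * e χ ≠ 0 := by
    intro h0
    rw [h0, mul_zero] at hs
    exact (mul_ne_zero Subgroup.index_ne_zero_of_finite (charDegree_ne_zero hθ)) hs.symm
  obtain ⟨χ, -, hχ⟩ := Finset.exists_ne_zero_of_sum_ne_zero h1
  rw [mul_ne_zero_iff] at hχ
  refine ⟨χ, ?_, ?_⟩
  · rw [he]
    exact_mod_cast hχ.2
  · refine over_of_ind hZ Z le_rfl lam χ.2 ?_ lam fun z => rfl
    rw [hm]
    exact_mod_cast hχ.1

/-- The same for a subgroup of index prime to `p` to which `lam` extends: the multiplicity of `θ` can be taken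
prime to `p`. -/
theorem exists_both' {p : ℕ} [hp : Fact p.Prime] {N Z D : Subgroup G} [N.Normal] [Fintype N]
    (hZ : Z ≤ Subgroup.center G) (hZD : Z ≤ D) (hND : N ⊓ D = ⊥) (hNp : ¬ p ∣ Nat.card N) (hDp : ¬ p ∣ D.index)
    {θ : N → ℂ} (hθ : IsIrrCharacter N θ) (lam : Z →* ℂˣ) (μ : D →* ℂˣ) (hμ : ∀ z : Z, μ ⟨z, hZD z.2⟩ = lam z) :
    ∃ (χ : IrrCharacter G) (e : ℕ), classInner (res N (χ : G → ℂ)) θ = e ∧ ¬ p ∣ e ∧ Over lam (χ : G → ℂ) := by
  classical
  have : Finite (IrrCharacter G) := finite_irr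
  have : Fintype (IrrCharacter G) := Fintype.ofFinite _
  have : Fintype D := Fintype.ofFinite _
  obtain ⟨m, e, hm, he, hs⟩ := sum_mult N D hND μ hθ
  have hd : ¬ p ∣ charDegree θ := fun h => hNp (h.trans (charDegree_dvd hθ))
  have h1 : ¬ p ∣ ∑ χ, m χ * e χ := by
    intro h0
    have h2 : p ∣ D.index * charDegree θ := by
      rw [← hs]
      exact Dvd.dvd.mul_left h0 _
    rcases (Nat.Prime.dvd_mul hp.out).1 h2 with h3 | h3
    · exact hDp h3
    · exact hd h3
  obtain ⟨χ, -, hχ⟩ : ∃ χ ∈ Finset.univ, ¬ p ∣ m χ * e χ := by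
    by_contra hcon
    push Not at hcon
    exact h1 (Finset.dvd_sum hcon)
  refine ⟨χ, e χ, he χ, fun h => hχ (Dvd.dvd.mul_left h _), ?_⟩
  refine over_of_ind hZ D hZD μ χ.2 ?_ lam hμ
  rw [hm]
  intro h0
  apply hχ
  have : m χ = 0 := by exact_mod_cast h0
  rw [this, zero_mul]
  exact dvd_zero p

end ind

section ext

variable {G : Type u} [Group G] [Fintype G]

/-- Characters over an invariant character of `N` and over `lam` have the degree of `θ`, if `G / N Z` is abelian and
a `p`-group. -/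
theorem degree_eq {p : ℕ} [hp : Fact p.Prime] {N Z D : Subgroup G} [hN : N.Normal] [Fintype N]
    (hZ : Z ≤ Subgroup.center G) (hZD : Z ≤ D) (hND : N ⊓ D = ⊥) (hNp : ¬ p ∣ Nat.card N) (hDp : ¬ p ∣ D.index)
    (hidx : ∃ k : ℕ, N.index = p ^ k) (hcomm : commutator G ≤ N ⊔ Z)
    {θ : N → ℂ} (hθ : IsIrrCharacter N θ) (hinv : ∀ g, conjFn N θ g = θ)
    (lam : Z →* ℂˣ) (μ : D →* ℂˣ) (hμ : ∀ z : Z, μ ⟨z, hZD z.2⟩ = lam z)
    {ψ : G → ℂ} (hψ : IsIrrCharacter G ψ) (hψθ : classInner (res N ψ) θ ≠ 0) (hψl : Over lam ψ) :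
    ψ 1 = θ 1 := by
  classical
  obtain ⟨χ, e, he, hpe, hχl⟩ := exists_both' hZ hZD hND hNp hDp hθ lam μ hμ
  have hχe : classInner (res N (χ : G → ℂ)) θ ≠ 0 := by
    rw [he]
    intro h0
    apply hpe
    have : e = 0 := by exact_mod_cast h0
    rw [this]; exact dvd_zero p
  -- `χ` restricts to `e θ`
  have hres := res_of_invariant hθ hinv χ.2 hχe
  have hθ1 := isIrr_apply_one_ne_zero hθ
  have hres' : res N (χ : G → ℂ) = ((χ : G → ℂ) 1 / θ 1) • θ := by
    funext n
    rw [Pi.smul_apply, smul_eq_mul, res_apply, div_mul_eq_mul_div, eq_div_iff hθ1]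
    exact hres n
  have hχ1 : (χ : G → ℂ) 1 = e * θ 1 := by
    rw [hres', classInner_smul_left, classInner_irr_self hθ, mul_one] at he
    rw [← he, div_mul_cancel₀ _ hθ1]
  have hdeg : charDegree (χ : G → ℂ) = e * charDegree θ := by
    apply H670.PSing.charDegree_eq_of
    rw [hχ1, charDegree_eq hθ, Nat.cast_mul]
  have h1 := S0887.result N (χ : G → ℂ) χ.2 θ hθ hχe _ _ (charDegree_eq χ.2) (charDegree_eq hθ)
  have he1 : e = 1 := by
    obtain ⟨k, hk⟩ := hidx
    have h2 := h1.2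
    rw [hdeg, Nat.mul_div_cancel _ (Nat.pos_of_ne_zero (charDegree_ne_zero hθ)), hk, Nat.dvd_prime_pow hp.out] at h2
    obtain ⟨j, -, hj⟩ := h2
    rcases Nat.eq_zero_or_pos j with h0 | h0
    · rw [hj, h0, pow_zero]
    · exact absurd (hj ▸ dvd_pow_self p h0.ne') hpe
  rw [he1, Nat.cast_one, one_mul] at hχ1
  have hext : ∀ n : N, (χ : G → ℂ) n = θ n := by
    intro n
    have h2 := congrFun hres' n
    rw [hχ1, div_self hθ1, one_smul] at h2
    exact h2
  -- Gallagher
  have hone : ((fun _ => 1) * θ : N → ℂ) = θ := by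
    funext k; simp
  have key := S0856.result N (fun _ => 1) θ isIrr_one hθ (fun g n => rfl)
    (fun g n => congrFun (hinv g) n) (by rw [hone]; exact hθ) χ χ.2 hext
  have hmem : ψ ∈ {ψ : G → ℂ | IsIrrCharacter G ψ ∧ classInner (indFun N ((fun _ => 1) * θ)) ψ ≠ 0} := by
    refine ⟨hψ, ?_⟩
    rw [hone, classInner_res_symm N (isIrr_isCharacter hθ) (isIrr_isCharacter hψ)]
    exact hψθ
  obtain ⟨β, ⟨hβ, hβ1⟩, hβψ⟩ := key.surjOn hmem
  have hβψ' : ψ = β * χ := hβψ.symm
  have hβ1' : classInner (indFun N (1 : N → ℂ)) β ≠ 0 := hβ1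
  rw [classInner_res_symm N (isIrr_isCharacter isIrr_one) (isIrr_isCharacter hβ)] at hβ1'
  have hβN : ∀ n : N, β n = β 1 := by
    intro n
    have h2 := res_of_invariant (θ := (1 : N → ℂ)) isIrr_one (fun g => rfl) hβ hβ1' n
    simpa using h2
  have hβZ : ∀ z : Z, β z = β 1 := by
    intro z
    have h2 := hψl z
    have h3 := hχl z
    rw [hβψ', Pi.mul_apply, Pi.mul_apply, h3] at h2
    have h4 : (χ : G → ℂ) 1 * (lam z : ℂ) ≠ 0 := mul_ne_zero (isIrr_apply_one_ne_zero χ.2) (lam z).ne_zero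
    apply mul_right_cancel₀ h4
    rw [h2]; ring
  -- `β` is linear
  obtain ⟨f, hf⟩ : ∃ f : G →* ℂˣ, β = fun g => (f g : ℂ) := by
    apply exists_hom_of_ker hβ
    intro y hy
    obtain ⟨n, ρ, hρ, rfl⟩ := hβ
    have hker : N ⊔ Z ≤ ρ.ker := by
      rw [sup_le_iff]
      constructor
      · intro x hx
        have h2 := hβN ⟨x, hx⟩
        rw [Representation.char_one] at h2
        exact (Characters.Values.character_eq_finrank_iff ρ x).1 h2
      · intro x hx
        have h2 := hβZ ⟨x, hx⟩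
        rw [Representation.char_one] at h2
        exact (Characters.Values.character_eq_finrank_iff ρ x).1 h2
    have h2 : ρ y = 1 := hker (hcomm hy)
    rw [Representation.char_one]
    exact (Characters.Values.character_eq_finrank_iff ρ y).2 h2
  have hβ11 : β 1 = 1 := by rw [hf]; simp
  rw [hβψ', Pi.mul_apply, hβ11, one_mul, hχ1]

end ext

section group

/-- In a `p`-solvable group with `O_{p'} = 1`, a Sylow `p`-subgroup which is abelian modulo a central subgroup is
normal. -/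
theorem sylow_normal {G : Type u} [Group G] [Finite G] {p : ℕ} [hp : Fact p.Prime] (hG : IsPSolvable p G)
    (hcore : pPrimeCore p G = ⊥) (P : Sylow p G) {Z : Subgroup G} (hZ : Z ≤ Subgroup.center G)
    (hZp : IsPGroup p Z) (hPZ : ⁅(P : Subgroup G), (P : Subgroup G)⁆ ≤ Z) : (P : Subgroup G) = pCore p G := by
  have hZn : Z.Normal := ⟨fun z hz g => by
    have h1 := Subgroup.mem_center_iff.1 (hZ hz) g
    rw [h1, mul_inv_cancel_right]; exact hz⟩
  have hRn : (pCore p G).Normal := Lib.Cores.pCore_normal p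
  have hRp : IsPGroup p (pCore p G) := Lib.Cores.pCore_isPGroup p
  have hRP : pCore p G ≤ P := Lib.Cores.pCore_le_sylow P
  set f := QuotientGroup.mk' Z with hf
  have hRmn : ((pCore p G).map f).Normal := hRn.map f (QuotientGroup.mk'_surjective Z)
  set C : Subgroup G := (Subgroup.centralizer ((pCore p G).map f : Set (G ⧸ Z))).comap f with hC
  have hCn : C.Normal := Subgroup.Normal.comap inferInstance f
  have hmem : ∀ g : G, g ∈ C ↔ ∀ r ∈ pCore p G, g * r * g⁻¹ * r⁻¹ ∈ Z := by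
    intro g
    rw [hC, Subgroup.mem_comap, Subgroup.mem_centralizer_iff]
    constructor
    · intro h r hr
      have h1 := h (f r) (Subgroup.mem_map_of_mem f hr)
      rw [← QuotientGroup.ker_mk' Z, MonoidHom.mem_ker, ← hf]
      simp only [map_mul, map_inv]
      rw [← h1]; group
    · rintro h - ⟨r, hr, rfl⟩
      have h1 := h r hr
      rw [← QuotientGroup.ker_mk' Z, MonoidHom.mem_ker, ← hf] at h1
      simp only [map_mul, map_inv] at h1
      have h2 := mul_inv_eq_one.1 h1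
      have h3 := mul_inv_eq_iff_eq_mul.1 h2
      exact h3.symm
  have hCp : IsPGroup p C := by
    have h1 : ∀ q : ℕ, q.Prime → q ∣ Nat.card C → q = p := by
      intro q hq hqc
      have : Fact q.Prime := ⟨hq⟩
      by_contra hne
      obtain ⟨⟨g, hg⟩, hord⟩ := exists_prime_orderOf_dvd_card' (G := C) q hqc
      rw [Subgroup.orderOf_mk] at hord
      have h2 : g ∈ Subgroup.centralizer (pCore p G : Set G) := by
        rw [Subgroup.mem_centralizer_iff]
        intro r hr
        have h3 := (hmem g).1 hg r hr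
        set z := g * r * g⁻¹ * r⁻¹ with hz
        have hzc := Subgroup.mem_center_iff.1 (hZ h3)
        have h4 : g * r * g⁻¹ = z * r := by rw [hz]; group
        have h5 : ∀ k : ℕ, g ^ k * r * (g ^ k)⁻¹ = z ^ k * r := by
          intro k
          induction k with
          | zero => simp
          | succ k ih =>
            have h6 : g ^ (k + 1) * r * (g ^ (k + 1))⁻¹ = g * (g ^ k * r * (g ^ k)⁻¹) * g⁻¹ := by
              rw [pow_succ']; group
            have h7 : ∀ m : ℕ, g * z ^ m = z ^ m * g := fun m =>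
              (Commute.pow_right (show Commute g z from hzc g) m)
            rw [h6, ih, ← mul_assoc g, h7, mul_assoc (z ^ k), mul_assoc (z ^ k), h4, ← mul_assoc, ← pow_succ]
        have h6 := h5 q
        rw [← hord, pow_orderOf_eq_one, one_mul, inv_one, mul_one, hord] at h6
        have h7 : z ^ q = 1 := by
          have := mul_right_cancel (b := r) (a := (1 : G)) (c := z ^ q) (by rw [one_mul]; exact h6)
          exact this.symm
        have h8 : z = 1 := by
          obtain ⟨k, hk⟩ := (IsPGroup.iff_orderOf.1 hZp) ⟨z, h3⟩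
          rw [Subgroup.orderOf_mk] at hk
          have h9 : orderOf z ∣ q := orderOf_dvd_of_pow_eq_one h7
          have h10 : Nat.Coprime (p ^ k) q := Nat.Coprime.pow_left k ((Nat.coprime_primes hp.out hq).2 (Ne.symm hne))
          rw [← orderOf_eq_one_iff]
          rw [← hk] at h10
          exact Nat.Coprime.eq_one_of_dvd h10 h9
        rw [h8, one_mul] at h4
        exact (mul_inv_eq_iff_eq_mul.1 h4).symm
      have h3 := Lib.PSolvable.centralizer_pCore_le_of_pSolvable p hG hcore h2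
      obtain ⟨k, hk⟩ := (IsPGroup.iff_orderOf.1 hRp) ⟨g, h3⟩
      rw [Subgroup.orderOf_mk, hord] at hk
      have h4 : q ∣ p ^ k := by rw [← hk]
      exact hne ((Nat.prime_dvd_prime_iff_eq hq hp.out).1 (hq.dvd_of_dvd_pow h4))
    have h2 := Nat.eq_prime_pow_of_unique_prime_dvd (Nat.card_pos (α := C)).ne' (fun {q} hq hqc => h1 q hq hqc)
    exact IsPGroup.of_card h2
  refine le_antisymm ?_ hRP
  refine le_trans ?_ (Lib.Cores.le_pCore hCn hCp)
  intro d hd
  rw [hmem]
  intro r hr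
  exact hPZ (Subgroup.commutator_mem_commutator hd (hRP hr))

end group

section gdeg

theorem irr_down {G : Type u} [Group G] {N Q : Subgroup G} (hNQ : N ≤ Q) {θ : N → ℂ} (hθ : IsIrrCharacter N θ) :
    IsIrrCharacter (N.subgroupOf Q) (down N Q θ) :=
  isIrr_comp ((Subgroup.subgroupOfEquivOfLe hNQ : N.subgroupOf Q ≃* N) : N.subgroupOf Q →* N)
    (Subgroup.subgroupOfEquivOfLe hNQ).surjective hθ

/-- The easy direction over a `G`-invariant character of `O_{p'}(G)`. -/
theorem not_dvd_of_ext {G : Type u} [Group G] [Fintype G] {p : ℕ} [hp : Fact p.Prime] (hG : IsPSolvable p G)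
    {N : Subgroup G} [hN : N.Normal] [Fintype N] (hNdef : N = pPrimeCore p G) (P : Sylow p G) {Z : Subgroup G}
    (hZ : Z ≤ Subgroup.center G) (hZp : IsPGroup p Z) (hZP : Z ≤ (P : Subgroup G))
    (hPZ : ⁅(P : Subgroup G), (P : Subgroup G)⁆ ≤ Z)
    {θ : N → ℂ} (hθ : IsIrrCharacter N θ) (hinv : ∀ g, conjFn N θ g = θ)
    (lam : Z →* ℂˣ) (μ : (P : Subgroup G) →* ℂˣ) (hμ : ∀ z : Z, μ ⟨z, hZP z.2⟩ = lam z)
    {χ : G → ℂ} (hχ : IsIrrCharacter G χ) (hχθ : classInner (res N χ) θ ≠ 0) (hχl : Over lam χ) :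
    ¬ p ∣ charDegree χ := by
  classical
  have hNc : (Nat.card N).Coprime p := by rw [hNdef]; exact Lib.Cores.pPrimeCore_coprime p
  have hNp : ¬ p ∣ Nat.card N := (Nat.Prime.coprime_iff_not_dvd hp.out).1 hNc.symm
  set f := QuotientGroup.mk' N with hf
  have hfs : Function.Surjective f := QuotientGroup.mk'_surjective N
  have hGq : IsPSolvable p (G ⧸ N) := Lib.PSolvable.IsPSolvable_of_surjective p hG f hfs
  have hcore : pPrimeCore p (G ⧸ N) = ⊥ := by
    subst hNdef
    exact Lib.Cores.pPrimeCore_quotient_pPrimeCore p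
  have hZq : Z.map f ≤ Subgroup.center (G ⧸ N) := by
    rintro - ⟨z, hz, rfl⟩
    rw [Subgroup.mem_center_iff]
    intro g
    obtain ⟨g, rfl⟩ := hfs g
    rw [← map_mul, ← map_mul, Subgroup.mem_center_iff.1 (hZ hz) g]
  have hcomP : ⁅(P : Subgroup G).map f, (P : Subgroup G).map f⁆ ≤ Z.map f := by
    rw [← Subgroup.map_commutator]
    exact Subgroup.map_mono hPZ
  have hPn := sylow_normal hGq hcore (P.mapSurjective hfs) hZq (hZp.map f)
    (by rw [Sylow.coe_mapSurjective]; exact hcomP)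
  rw [Sylow.coe_mapSurjective] at hPn
  have hPn' : ((P : Subgroup G).map f).Normal := by rw [hPn]; exact Lib.Cores.pCore_normal p
  set Q : Subgroup G := ((P : Subgroup G).map f).comap f with hQ
  have hQn : Q.Normal := hPn'.comap f
  have hPQ : (P : Subgroup G) ≤ Q := Subgroup.le_comap_map _ _
  have hNQ : N ≤ Q := by
    intro n hn
    rw [hQ, Subgroup.mem_comap]
    have : f n = 1 := by rw [hf, QuotientGroup.mk'_apply, QuotientGroup.eq_one_iff]; exact hn
    rw [this]; exact one_mem _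
  have hZQ : Z ≤ Q := hZP.trans hPQ
  have hQQ : ⁅Q, Q⁆ ≤ N ⊔ Z := by
    have h1 : (⁅Q, Q⁆).map f ≤ Z.map f := by
      rw [Subgroup.map_commutator, hQ, Subgroup.map_comap_eq_self_of_surjective hfs]
      exact hcomP
    have h2 := Subgroup.map_le_iff_le_comap.1 h1
    rw [Subgroup.comap_map_eq, QuotientGroup.ker_mk', sup_comm] at h2
    exact h2
  have : Fintype Q := Fintype.ofFinite Q
  have : Fintype (N.subgroupOf Q) := Fintype.ofFinite _
  obtain ⟨ψ, hψ, hψ1, hψ2⟩ := exists_constituent hNQ (isCharacter_res Q (isIrr_isCharacter hχ))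
    (show classInner (resTo hNQ (res Q χ)) θ ≠ 0 from hχθ)
  -- the data of `Q`
  have hND : N ⊓ (P : Subgroup G) = ⊥ := by
    have h1 : IsPGroup p (N ⊓ (P : Subgroup G) : Subgroup G) := P.isPGroup'.to_le inf_le_right
    obtain ⟨k, hk⟩ := (IsPGroup.iff_card (p := p)).1 h1
    have h2 : p ^ k ∣ Nat.card N := hk ▸ Subgroup.card_dvd_of_le inf_le_left
    rw [← Subgroup.card_eq_one, hk]
    rcases Nat.eq_zero_or_pos k with h0 | h0
    · rw [h0, pow_zero]
    · exact absurd ((dvd_pow_self p h0.ne').trans h2) hNp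
  have hPidx : ¬ p ∣ (P : Subgroup G).index := P.not_dvd_index
  have h1 : (Z.subgroupOf Q) ≤ Subgroup.center Q := by
    intro z hz
    rw [Subgroup.mem_center_iff]
    intro g
    exact Subtype.ext (Subgroup.mem_center_iff.1 (hZ (Subgroup.mem_subgroupOf.1 hz)) g)
  have h2 : Z.subgroupOf Q ≤ (P : Subgroup G).subgroupOf Q := fun z hz =>
    Subgroup.mem_subgroupOf.2 (hZP (Subgroup.mem_subgroupOf.1 hz))
  have h3 : N.subgroupOf Q ⊓ (P : Subgroup G).subgroupOf Q = ⊥ := by
    rw [eq_bot_iff]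
    intro x hx
    have h4 : (x : G) ∈ N ⊓ (P : Subgroup G) := ⟨Subgroup.mem_subgroupOf.1 hx.1, Subgroup.mem_subgroupOf.1 hx.2⟩
    rw [hND, Subgroup.mem_bot] at h4
    rw [Subgroup.mem_bot]
    exact Subtype.ext h4
  have h4 : ¬ p ∣ Nat.card (N.subgroupOf Q) := by
    rw [Nat.card_congr (Subgroup.subgroupOfEquivOfLe hNQ).toEquiv]
    exact hNp
  have h5 : ¬ p ∣ ((P : Subgroup G).subgroupOf Q).index := fun h => hPidx
    (h.trans (Subgroup.relIndex_dvd_index_of_le hPQ))
  have h6 : ∃ k : ℕ, (N.subgroupOf Q).index = p ^ k := by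
    have h7 : Nat.card ((P : Subgroup G).map f) * Nat.card N = Nat.card Q := by
      have h8 := QuotientGroup.card_preimage_mk N (((P : Subgroup G).map f : Subgroup (G ⧸ N)) : Set (G ⧸ N))
      rw [mul_comm]
      exact h8.symm
    obtain ⟨k, hk⟩ := (IsPGroup.iff_card (p := p)).1 (P.isPGroup'.map f)
    refine ⟨k, ?_⟩
    have h8 := Subgroup.card_mul_index (N.subgroupOf Q)
    rw [Nat.card_congr (Subgroup.subgroupOfEquivOfLe hNQ).toEquiv, ← h7, hk, mul_comm] at h8
    exact Nat.eq_of_mul_eq_mul_right Nat.card_pos h8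
  have h7 : commutator Q ≤ N.subgroupOf Q ⊔ Z.subgroupOf Q := by
    rw [← Subgroup.subgroupOf_sup hNQ hZQ]
    intro x hx
    rw [Subgroup.mem_subgroupOf]
    apply hQQ
    rw [← Subgroup.map_subtype_commutator]
    exact ⟨x, hx, rfl⟩
  have hinv' : ∀ g, conjFn (N.subgroupOf Q) (down N Q θ) g = down N Q θ := by
    intro g
    funext n
    exact congrFun (hinv (g : G)) ⟨((n : Q) : G), Subgroup.mem_subgroupOf.1 n.2⟩
  let eZ : Z.subgroupOf Q →* Z := (Subgroup.subgroupOfEquivOfLe hZQ).toMonoidHom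
  let eP : (P : Subgroup G).subgroupOf Q →* (P : Subgroup G) := (Subgroup.subgroupOfEquivOfLe hPQ).toMonoidHom
  have h8 : ∀ z : Z.subgroupOf Q, (μ.comp eP) ⟨z, h2 z.2⟩ = (lam.comp eZ) z := fun z => hμ (eZ z)
  have hψl : Over (lam.comp eZ) ψ := by
    intro z
    exact (over_iff hZ Q hZQ hχ hψ hψ1 lam).1 hχl (eZ z)
  have hψθ : classInner (res (N.subgroupOf Q) ψ) (down N Q θ) ≠ 0 := by
    rw [res_eq_down hNQ, classInner_down hNQ]
    exact hψ2
  have h9 := degree_eq h1 h2 h3 h4 h5 h6 h7 (irr_down hNQ hθ) hinv' (lam.comp eZ) (μ.comp eP) h8 hψ hψθ hψl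
  have h10 : charDegree ψ = charDegree θ := by
    apply H670.PSing.charDegree_eq_of
    have h12 : down N Q θ 1 = θ 1 := rfl
    rw [h9, h12]
    exact charDegree_eq hθ
  have h11 := S0887.result Q χ hχ ψ hψ hψ1 _ _ (charDegree_eq hχ) (charDegree_eq hψ)
  intro hdvd
  have h12 : charDegree χ = charDegree ψ * (charDegree χ / charDegree ψ) := (Nat.mul_div_cancel' h11.1).symm
  rw [h12] at hdvd
  rcases (Nat.Prime.dvd_mul hp.out).1 hdvd with h | h
  · rw [h10] at h
    exact hNp (h.trans (charDegree_dvd hθ))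
  · exact hPidx ((h.trans h11.2).trans (Subgroup.index_dvd_of_le hPQ))

end gdeg

section main

/-- The theorem of Gluck and Wolf (S4900). -/
def GW (p : ℕ) : Prop :=
  ∀ (G : Type u) [Group G] [Finite G] (Z : Subgroup G) [Z.Normal], IsPSolvable p (G ⧸ Z) →
    ∀ (θ : IrrCharacter Z) (P : Subgroup G), Z ≤ P → (∃ a : ℕ, Z.relIndex P = p ^ a) → ¬ p ∣ P.index →
    (∀ χ : IrrCharacter G, (∑ᶠ z : Z, (χ : G → ℂ) z * (starRingEnd ℂ) ((θ : Z → ℂ) z)) ≠ 0 →
      (charDegree (χ : G → ℂ)).factorization p = (charDegree (θ : Z → ℂ)).factorization p) → ⁅P, P⁆ ≤ Z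

/-- Height zero means degree prime to `p` in a block of full defect. -/
theorem height_iff {G : Type u} [Group G] [Finite G] {p : ℕ} [hp : Fact p.Prime] {M : Ideal AlgInt}
    (hM : IsPModular p M) {B : Set (IrrCharacter G)} (hB : IsPBlock M B) {P : Sylow p G}
    (hP : IsDefectGroup p M B (P : Subgroup G)) {χ : IrrCharacter G} :
    blockHeight p B (χ : G → ℂ) = 0 ↔ ¬ p ∣ charDegree (χ : G → ℂ) := by
  obtain ⟨χ₀, hχ₀, h0⟩ := PSolvOne.exists_not_dvd hM hB hP
  have h1 : sInf ((fun ψ : IrrCharacter G => (charDegree (ψ : G → ℂ)).factorization p) '' B) = 0 := by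
    apply Nat.sInf_eq_zero.2
    left
    exact ⟨χ₀, hχ₀, Nat.factorization_eq_zero_of_not_dvd h0⟩
  unfold blockHeight
  rw [h1, Nat.sub_zero]
  constructor
  · intro h hd
    exact (hp.out.factorization_pos_of_dvd (H613.RegGram.charDegree_ne_zero χ) hd).ne' h
  · intro h
    exact Nat.factorization_eq_zero_of_not_dvd h

/-- The case of a `G`-invariant character of `O_{p'}(G)`. -/
theorem base {G : Type u} [Group G] [Fintype G] {p : ℕ} [hp : Fact p.Prime] (hGW : GW.{u} p) {M : Ideal AlgInt}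
    (hM : IsPModular p M) (hG : IsPSolvable p G)
    {N : Subgroup G} [hN : N.Normal] [Fintype N] (hNdef : N = pPrimeCore p G)
    {θ : IrrCharacter N} (hinv : ∀ g, conjFn N (θ : N → ℂ) g = θ)
    {B : Set (IrrCharacter G)} (hB : IsPBlock M B)
    (hmem : ∀ χ : IrrCharacter G, χ ∈ B ↔ classInner (fun n : N => (χ : G → ℂ) n) (θ : N → ℂ) ≠ 0)
    (P : Sylow p G) (hP : IsDefectGroup p M B (P : Subgroup G)) {Z : Subgroup G}
    (hZ : Z ≤ Subgroup.center G) (hZp : IsPGroup p Z) (hZP : Z ≤ (P : Subgroup G)) (lam : Z →* ℂˣ) :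
    (∀ χ : IrrCharacter G, χ ∈ B → Over lam (χ : G → ℂ) → blockHeight p B (χ : G → ℂ) = 0) ↔
      (⁅(P : Subgroup G), (P : Subgroup G)⁆ ≤ Z ∧
        ∃ μ : (P : Subgroup G) →* ℂˣ, ∀ z : Z, μ ⟨z, hZP z.2⟩ = lam z) := by
  classical
  have hNc : (Nat.card N).Coprime p := by rw [hNdef]; exact Lib.Cores.pPrimeCore_coprime p
  have hNp : ¬ p ∣ Nat.card N := (Nat.Prime.coprime_iff_not_dvd hp.out).1 hNc.symm
  have hND : N ⊓ (P : Subgroup G) = ⊥ := by
    have h1 : IsPGroup p (N ⊓ (P : Subgroup G) : Subgroup G) := P.isPGroup'.to_le inf_le_right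
    obtain ⟨k, hk⟩ := (IsPGroup.iff_card (p := p)).1 h1
    have h2 : p ^ k ∣ Nat.card N := hk ▸ Subgroup.card_dvd_of_le inf_le_left
    rw [← Subgroup.card_eq_one, hk]
    rcases Nat.eq_zero_or_pos k with h0 | h0
    · rw [h0, pow_zero]
    · exact absurd ((dvd_pow_self p h0.ne').trans h2) hNp
  have hNZ : N ⊓ Z = ⊥ := by
    rw [eq_bot_iff, ← hND]
    exact inf_le_inf_left N hZP
  have hZn : Z.Normal := ⟨fun z hz g => by
    have h1 := Subgroup.mem_center_iff.1 (hZ hz) g
    rw [h1, mul_inv_cancel_right]; exact hz⟩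
  constructor
  · intro h
    obtain ⟨χ₁, hχ₁, hl₁⟩ := exists_both hZ hNZ θ.2 lam
    have hχ₁B : χ₁ ∈ B := (hmem χ₁).2 hχ₁
    refine ⟨?_, S5001.result p M hM B hB _ hP Z hZ hZp hZP lam χ₁ hχ₁B hl₁ (h χ₁ hχ₁B hl₁)⟩
    -- the theorem of Gluck and Wolf for `N Z`
    have : Fintype (N ⊔ Z : Subgroup G) := Fintype.ofFinite _
    obtain ⟨φ, hφ, hφ1, hφ2⟩ := exists_constituent (le_sup_left : N ≤ N ⊔ Z)
      (isCharacter_res (N ⊔ Z) (isIrr_isCharacter χ₁.2))
      (show classInner (resTo le_sup_left (res (N ⊔ Z) (χ₁ : G → ℂ))) (θ : N → ℂ) ≠ 0 from hχ₁)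
    have hφl := (over_iff hZ (N ⊔ Z) le_sup_right χ₁.2 hφ hφ1 lam).1 hl₁
    have h2 : ⁅(N ⊔ (P : Subgroup G)), (N ⊔ (P : Subgroup G))⁆ ≤ N ⊔ Z := by
      refine hGW G (N ⊔ Z) (Lib.PSolvable.IsPSolvable_of_surjective p hG (QuotientGroup.mk' _)
        (QuotientGroup.mk'_surjective _)) ⟨φ, hφ⟩ (N ⊔ (P : Subgroup G)) (sup_le_sup_left hZP N) ?_ ?_ ?_
      · -- the index is a power of `p`
        obtain ⟨k, hk⟩ := (IsPGroup.iff_card (p := p)).1 P.isPGroup'
        have h3 : (N ⊔ Z).relIndex (N ⊔ (P : Subgroup G)) ∣ p ^ k := by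
          rw [← hk]
          refine (Subgroup.relIndex_dvd_of_le_left (N ⊔ (P : Subgroup G)) le_sup_left).trans ?_
          rw [Subgroup.relIndex_sup_left]
          exact Subgroup.relIndex_dvd_card N (P : Subgroup G)
        obtain ⟨j, -, hj⟩ := (Nat.dvd_prime_pow hp.out).1 h3
        exact ⟨j, hj⟩
      · intro hd
        exact P.not_dvd_index (hd.trans (Subgroup.index_dvd_of_le le_sup_right))
      · intro χ hχ
        have hχφ : classInner (res (N ⊔ Z) (χ : G → ℂ)) φ ≠ 0 := by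
          rw [finsum_eq_sum_of_fintype] at hχ
          rw [classInner_def]
          exact mul_ne_zero (inv_ne_zero card_ne_zero_complex) hχ
        have hχl := (over_iff hZ (N ⊔ Z) le_sup_right χ.2 hφ hχφ lam).2 hφl
        have hχB : χ ∈ B := by
          rw [hmem]
          have hrem := OddOrderCharacters.Clifford.isCharacter_sub_irr
            (isCharacter_res (N ⊔ Z) (isIrr_isCharacter χ.2)) hφ hχφ
          obtain ⟨k, hk⟩ := classInner_isNat (isCharacter_resTo (le_sup_left : N ≤ N ⊔ Z) hrem)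
            (isIrr_isCharacter θ.2)
          obtain ⟨l, hl⟩ := classInner_isNat (isCharacter_resTo (le_sup_left : N ≤ N ⊔ Z)
            (isIrr_isCharacter hφ)) (isIrr_isCharacter θ.2)
          have h3 : (fun n : N => (χ : G → ℂ) n) = resTo (le_sup_left : N ≤ N ⊔ Z) φ +
              resTo (le_sup_left : N ≤ N ⊔ Z) (res (N ⊔ Z) (χ : G → ℂ) - φ) := by
            funext n
            show (χ : G → ℂ) n = φ ⟨n, _⟩ + ((χ : G → ℂ) n - φ ⟨n, _⟩)
            ring
          rw [h3, classInner_add_left, hk, hl]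
          rw [hl] at hφ2
          have h4 : l ≠ 0 := by exact_mod_cast hφ2
          have h5 : l + k ≠ 0 := by omega
          exact_mod_cast h5
        have h3 : ¬ p ∣ charDegree (χ : G → ℂ) := (height_iff hM hB hP).1 (h χ hχB hχl)
        have h4 : ¬ p ∣ charDegree (χ₁ : G → ℂ) := (height_iff hM hB hP).1 (h χ₁ hχ₁B hl₁)
        have h5 : ¬ p ∣ charDegree φ := fun h6 =>
          h4 (h6.trans (H670.PSing.degree_dvd_of_over (N ⊔ Z) hφ χ₁.2 hφ1))
        rw [Nat.factorization_eq_zero_of_not_dvd h3]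
        exact (Nat.factorization_eq_zero_of_not_dvd h5).symm
    rw [Subgroup.commutator_le]
    intro a ha b hb
    have h3 : ⁅a, b⁆ ∈ N ⊔ Z := h2 (Subgroup.commutator_mem_commutator (le_sup_right (a := N) ha)
      (le_sup_right (a := N) hb))
    have h4 : ⁅a, b⁆ ∈ (P : Subgroup G) := by
      rw [commutatorElement_def]
      exact mul_mem (mul_mem (mul_mem ha hb) (inv_mem ha)) (inv_mem hb)
    obtain ⟨n, hn, z, hz, hnz⟩ := Subgroup.mem_sup_of_normal_left.1 h3
    have h5 : n ∈ N ⊓ (P : Subgroup G) := by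
      refine ⟨hn, ?_⟩
      have h6 : n = ⁅a, b⁆ * z⁻¹ := by rw [← hnz, mul_inv_cancel_right]
      rw [h6]
      exact (P : Subgroup G).mul_mem h4 ((P : Subgroup G).inv_mem (hZP hz))
    rw [hND, Subgroup.mem_bot] at h5
    rw [← hnz, h5, one_mul]
    exact hz
  · rintro ⟨h1, μ, hμ⟩ χ hχ hl
    rw [height_iff hM hB hP]
    exact not_dvd_of_ext hG hNdef P hZ hZp hZP h1 θ.2 hinv lam μ hμ χ.2 ((hmem χ).1 hχ) hl

/-- The projective height zero conjecture for `p`-solvable groups. -/
theorem main_aux (p : ℕ) [hp : Fact p.Prime] (hGW : GW.{u} p) (M : Ideal AlgInt) (hM : IsPModular p M) (n : ℕ) :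
    ∀ (G : Type u) [Group G] [Finite G] (B : Set (IrrCharacter G)) (D Z : Subgroup G) (hZD : Z ≤ D)
      (lam : Z →* ℂˣ), Nat.card G = n →
      IsPSolvable p G → IsPBlock M B → IsDefectGroup p M B D → Z ≤ Subgroup.center G → IsPGroup p Z →
      ((∀ χ : IrrCharacter G, χ ∈ B → Over lam (χ : G → ℂ) → blockHeight p B (χ : G → ℂ) = 0) ↔
        (⁅D, D⁆ ≤ Z ∧ ∃ μ : D →* ℂˣ, ∀ z : Z, μ ⟨z, hZD z.2⟩ = lam z)) := by
  induction n using Nat.strong_induction_on with
  | _ n ih =>
  intro G _ _ B D Z hZD lam hcard hG hB hD hZ hZp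
  classical
  have hMp := Blocks.Local.isPrime_of_isPModular hM
  have := Fintype.ofFinite G
  set N := pPrimeCore p G with hNdef
  have hN : N.Normal := Lib.Cores.pPrimeCore_normal p
  have hNc : (Nat.card N).Coprime p := Lib.Cores.pPrimeCore_coprime p
  have := Fintype.ofFinite N
  obtain ⟨χ, hχ⟩ := Blocks.Basic.isPBlock_nonempty hB
  obtain ⟨θ, hθ⟩ := Blocks.Fong.exists_constituent N χ
  have hbθ : IsPBlock M ({θ} : Set (IrrCharacter N)) := by
    refine ⟨θ, ((S0914.result p M hM θ).1 ?_).symm⟩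
    intro hd
    have h1 : Nat.card N / charDegree (θ : N → ℂ) ∣ Nat.card N :=
      Nat.div_dvd_of_dvd (S4492.degree_dvd_card θ.2 (Blocks.Basic.irr_one_eq_charDegree θ.2))
    exact (Nat.Prime.coprime_iff_not_dvd hp.out).1 hNc.symm (hd.trans h1)
  set T := inertia N (θ : N → ℂ) with hTdef
  have hst : H591.Reynolds.IsStab ({θ} : Set (IrrCharacter N)) T := by
    intro g
    rw [hTdef, mem_inertia']
    constructor
    · intro h θ₁ hθ₁ θ' hθ'
      rw [Set.mem_singleton_iff] at hθ₁ ⊢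
      subst hθ₁
      exact Subtype.ext (funext fun n => (hθ' n).trans (h n))
    · intro h n
      have hirr : IsIrrCharacter N (conjFn N (θ : N → ℂ) g) := isIrr_conjFn N θ.2 g
      have h1 := h θ rfl ⟨_, hirr⟩ (fun n => rfl)
      rw [Set.mem_singleton_iff] at h1
      exact congrFun (congrArg Subtype.val h1) n
  have hNT : N ≤ T := hst.le hbθ
  have := Fintype.ofFinite T
  by_cases hT : T = ⊤
  · -- `θ` is invariant
    have hinv : ∀ (g : G) (n : N), (θ : N → ℂ) ⟨g * n * g⁻¹, hN.conj_mem n n.2 g⟩ = (θ : N → ℂ) n := by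
      intro g
      have hg : g ∈ T := by rw [hT]; exact Subgroup.mem_top g
      exact mem_inertia'.1 hg
    have hinv' : ∀ g, conjFn N (θ : N → ℂ) g = θ := by
      intro g
      have hg : g ∈ T := by rw [hT]; exact Subgroup.mem_top g
      exact mem_inertia.1 hg
    obtain ⟨B₁, hB₁, hmem, hsyl, hDs⟩ := S4492.result p M hM hG N hNdef θ hinv
    have hχ₁ : χ ∈ B₁ := (hmem χ).2 hθ
    obtain rfl : B = B₁ := Blocks.Basic.isPBlock_eq_of_mem hB hB₁ hχ hχ₁
    obtain ⟨P, rfl⟩ := hDs D hD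
    exact base hGW hM hG hNdef hinv' hB hmem P hD hZ hZp hZD lam
  · have hTlt : Nat.card T < n := by
      rw [← hcard]
      exact lt_of_le_of_ne (Nat.le_of_dvd Nat.card_pos T.card_subgroup_dvd_card) fun h =>
        hT (Subgroup.eq_top_of_card_eq T h)
    have hcov : ∃ χ ∈ B, ∃ θ' ∈ ({θ} : Set (IrrCharacter N)),
        classInner (fun n : N => (χ : G → ℂ) n) (θ' : N → ℂ) ≠ 0 := ⟨χ, hχ, θ, rfl, hθ⟩
    obtain ⟨B', hB', ⟨ψ₀, hψ₀, θ₀, hθ₀, h₀⟩, hi⟩ := (S4435.result p M hM N {θ} hbθ T hst hNT).2.2 B hB hcov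
    have hcov' : ∃ ψ ∈ B', ∃ θ' ∈ ({θ} : Set (IrrCharacter N)),
        classInner (fun n : N => (ψ : T → ℂ) ⟨(n : G), hNT n.2⟩) (θ' : N → ℂ) ≠ 0 := ⟨ψ₀, hψ₀, θ₀, hθ₀, h₀⟩
    have hTs : IsPSolvable p T := Lib.PSolvable.IsPSolvable_of_injective p hG T.subtype T.subtype_injective
    obtain ⟨D', hD', -⟩ := S0931.exists_defectGroup p M hM B' hB'
    have h2 := S4436.result p M hM N {θ} hbθ T hst hNT B' hB' hcov' B hi
    obtain ⟨c, rfl⟩ := PSolvOne.defect_conj hM hB (h2.1 D' hD') hD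
    obtain ⟨B₂, hB₂, -, -, hmem₂⟩ := (S4435.result p M hM N {θ} hbθ T hst hNT).1 B' hB' hcov'
    obtain rfl : B = B₂ := by
      obtain ⟨ψ, hψ⟩ := Blocks.Basic.isPBlock_nonempty hB'
      obtain ⟨χ₂, hχ₂, hχ₂', -⟩ := h2.2 ψ hψ
      have h3 : χ₂ ∈ B₂ := (hmem₂ χ₂).2 ⟨ψ, hψ, hχ₂'⟩
      exact Blocks.Basic.isPBlock_eq_of_mem hB hB₂.2.1 hχ₂ h3
    -- the central subgroup
    have hcent : ∀ z ∈ Z, ∀ g : G, g * z = z * g := fun z hz g => Subgroup.mem_center_iff.1 (hZ hz) g
    have hZT : Z ≤ T := by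
      intro z hz
      rw [hTdef, mem_inertia']
      intro n
      have h3 : (⟨z * n * z⁻¹, hN.conj_mem n n.2 z⟩ : N) = n := by
        apply Subtype.ext
        show z * (n : G) * z⁻¹ = n
        rw [← hcent z hz, mul_inv_cancel_right]
      rw [h3]
    have hZD' : Z.subgroupOf T ≤ D' := by
      intro z hz
      obtain ⟨-, ⟨d, hd, rfl⟩, hd2⟩ := hZD (Subgroup.mem_subgroupOf.1 hz)
      have h3 : c * (d : G) * c⁻¹ = z := hd2
      have h4 : (d : G) = z := by
        have h5 : (d : G) = c⁻¹ * (z : G) * c := by rw [← h3]; group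
        rw [h5, hcent z (Subgroup.mem_subgroupOf.1 hz), mul_assoc, inv_mul_cancel, mul_one]
      have h5 : d = z := Subtype.ext h4
      rw [← h5]; exact hd
    let eZ : Z.subgroupOf T ≃* Z := Subgroup.subgroupOfEquivOfLe hZT
    have hkey := ih _ hTlt T B' D' (Z.subgroupOf T) hZD' (lam.comp eZ.toMonoidHom) rfl hTs hB' hD' (by
      intro z hz
      rw [Subgroup.mem_center_iff]
      intro g
      exact Subtype.ext (hcent z (Subgroup.mem_subgroupOf.1 hz) g))
      (hZp.of_injective eZ.toMonoidHom eZ.injective)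
    -- the left hand sides
    have hind : ∀ (ψ : IrrCharacter T) (z : G) (hz : z ∈ Z), indFun T (ψ : T → ℂ) z =
        (T.index : ℂ) * (ψ : T → ℂ) ⟨z, hZT hz⟩ := by
      intro ψ z hz
      rw [indFun_apply]
      have h3 : ∀ x : G, extendByZero T (ψ : T → ℂ) (x⁻¹ * z * x) = (ψ : T → ℂ) ⟨z, hZT hz⟩ := by
        intro x
        have e : x⁻¹ * z * x = ((⟨z, hZT hz⟩ : T) : G) := by
          show x⁻¹ * z * x = z
          rw [hcent z hz, mul_assoc, inv_mul_cancel, mul_one]
        rw [e, ext_coe]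
      rw [Finset.sum_congr rfl fun x _ => h3 x]
      have h4 := indFun_apply_one (H := T) (fun _ => (ψ : T → ℂ) ⟨z, hZT hz⟩)
      rw [indFun_apply] at h4
      rw [← h4]
      congr 1
      refine Finset.sum_congr rfl fun x _ => ?_
      have e : x⁻¹ * 1 * x = ((1 : T) : G) := by simp
      rw [e, ext_coe]
    have hover : ∀ ψ : IrrCharacter T, Over lam (indFun T (ψ : T → ℂ)) ↔
        Over (lam.comp eZ.toMonoidHom) (ψ : T → ℂ) := by
      intro ψ
      have h3 : (T.index : ℂ) ≠ 0 := by exact_mod_cast Subgroup.index_ne_zero_of_finite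
      constructor
      · intro h z
        have h4 := h (eZ z)
        rw [hind ψ _ (eZ z).2, indFun_apply_one, mul_assoc] at h4
        exact mul_left_cancel₀ h3 h4
      · intro h z
        have h4 := h (eZ.symm z)
        rw [hind ψ _ z.2, indFun_apply_one, mul_assoc]
        apply congrArg
        have h5 : (lam.comp eZ.toMonoidHom) (eZ.symm z) = lam z := by
          show lam (eZ (eZ.symm z)) = lam z
          rw [MulEquiv.apply_symm_apply]
        rw [h5] at h4
        exact h4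
    have hleft : (∀ χ : IrrCharacter G, χ ∈ B → Over lam (χ : G → ℂ) → blockHeight p B (χ : G → ℂ) = 0) ↔
        (∀ ψ : IrrCharacter T, ψ ∈ B' → Over (lam.comp eZ.toMonoidHom) (ψ : T → ℂ) →
          blockHeight p B' (ψ : T → ℂ) = 0) := by
      constructor
      · intro h ψ hψ hl
        obtain ⟨χ₂, hχ₂, hχ₂', hh⟩ := h2.2 ψ hψ
        rw [← hh]
        apply h χ₂ hχ₂
        rw [hχ₂']
        exact (hover ψ).2 hl
      · intro h χ₃ hχ₃ hl
        obtain ⟨ψ, hψ, hψ'⟩ := (hmem₂ χ₃).1 hχ₃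
        obtain ⟨χ₂, hχ₂, hχ₂', hh⟩ := h2.2 ψ hψ
        have h3 : χ₃ = χ₂ := Subtype.ext (hψ'.trans hχ₂'.symm)
        rw [h3, hh]
        apply h ψ hψ
        rw [hψ'] at hl
        exact (hover ψ).1 hl
    rw [hleft, hkey]
    -- the right hand sides
    let e : D' ≃* (D'.map T.subtype).map (MulAut.conj c).toMonoidHom :=
      (D'.equivMapOfInjective _ T.subtype_injective).trans
        ((D'.map T.subtype).equivMapOfInjective _ (MulAut.conj c).injective)
    have he : ∀ x : D', ((e x : (D'.map T.subtype).map (MulAut.conj c).toMonoidHom) : G) =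
        c * ((x : T) : G) * c⁻¹ := fun x => rfl
    have hZconj : ∀ y : G, c * y * c⁻¹ ∈ Z ↔ y ∈ Z := by
      intro y
      constructor
      · intro h
        have h3 := hcent _ h c⁻¹
        have h4 : y = c * y * c⁻¹ := by
          calc y = c⁻¹ * (c * y * c⁻¹) * c := by group
            _ = c * y * c⁻¹ * c⁻¹ * c := by rw [h3]
            _ = c * y * c⁻¹ := by group
        rw [h4]; exact h
      · intro h
        rw [hcent y h, mul_inv_cancel_right]; exact h
    have hez : ∀ (z : G) (hz : z ∈ Z), e ⟨⟨z, hZT hz⟩, hZD' (Subgroup.mem_subgroupOf.2 hz)⟩ = ⟨z, hZD hz⟩ := by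
      intro z hz
      apply Subtype.ext
      rw [he]
      show c * z * c⁻¹ = z
      rw [hcent z hz, mul_inv_cancel_right]
    refine and_congr ?_ ?_
    · rw [Subgroup.commutator_le, Subgroup.commutator_le]
      constructor
      · intro h a ha b hb
        obtain ⟨a', ha'⟩ := e.surjective ⟨a, ha⟩
        obtain ⟨b', hb'⟩ := e.surjective ⟨b, hb⟩
        have h3 := Subgroup.mem_subgroupOf.1 (h a' a'.2 b' b'.2)
        have h4 : a = c * ((a' : T) : G) * c⁻¹ := by rw [← he, ha']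
        have h5 : b = c * ((b' : T) : G) * c⁻¹ := by rw [← he, hb']
        have h6 : ⁅a, b⁆ = c * ((⁅(a' : T), (b' : T)⁆ : T) : G) * c⁻¹ := by
          rw [h4, h5]
          simp only [commutatorElement_def, Subgroup.coe_mul, Subgroup.coe_inv]
          group
        rw [h6, hZconj]
        exact h3
      · intro h a ha b hb
        have h3 := h (e ⟨a, ha⟩) (e ⟨a, ha⟩).2 (e ⟨b, hb⟩) (e ⟨b, hb⟩).2
        rw [he, he] at h3
        have h6 : ⁅c * (a : G) * c⁻¹, c * (b : G) * c⁻¹⁆ = c * ((⁅a, b⁆ : T) : G) * c⁻¹ := by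
          simp only [commutatorElement_def, Subgroup.coe_mul, Subgroup.coe_inv]
          group
        rw [h6, hZconj] at h3
        exact Subgroup.mem_subgroupOf.2 h3
    · constructor
      · rintro ⟨μ, hμ⟩
        refine ⟨μ.comp e.symm.toMonoidHom, fun z => ?_⟩
        have h3 := hμ (eZ.symm z)
        have h4 : (lam.comp eZ.toMonoidHom) (eZ.symm z) = lam z := by
          show lam (eZ (eZ.symm z)) = lam z
          rw [MulEquiv.apply_symm_apply]
        rw [h4] at h3
        rw [← h3]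
        show μ (e.symm _) = μ _
        congr 1
        rw [MulEquiv.symm_apply_eq]
        exact (hez z z.2).symm
      · rintro ⟨μ, hμ⟩
        refine ⟨μ.comp e.toMonoidHom, fun z => ?_⟩
        have h3 := hμ (eZ z)
        show μ (e _) = lam (eZ z)
        rw [← h3]
        congr 1
        exact hez _ (eZ z).2

end main

end Cfsg.Agent.H625.PHZ
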