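import Cfsg.Agent.H591.ReynoldsMain
import Cfsg.Agent.H613.RegGram
import Cfsg.Prelude.Def_BlockRank

/-!
# The Fong–Reynolds correspondence preserves `k(B)` and `l(B)` (helper625)

`N` normal in the finite group `G`, `b` a block of `N` with stabilizer `T ≥ N` in `G`, `B'` a block of `T` covering
`b`, `B` the induced block of `G`.

* `card_eq : Nat.card B = Nat.card B'`;
* `rank_eq : blockRank p B = blockRank p B'`.
-/

set_option autoImplicit false

open Cfsg
open scoped ComplexConjugate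

namespace Cfsg.Agent.H625.FongRank

open Cfsg.Agent.Characters.Core Cfsg.Agent.OddOrderCharacters.IndRes
  Cfsg.Agent.OddOrderCharacters.NormalInduced Cfsg.Agent.OddOrderCharacters
open Cfsg.Agent.OddOrderCharacters.PF9.CliffGen (inertia mem_inertia le_inertia resTo resTo_apply
  down classInner_down indFun_down resTo_res)
open Cfsg.Agent.H591.Reynolds Cfsg.Agent.H591.ReynoldsMain Cfsg.Agent.H613.RegGram Cfsg.Agent.Blocks.Blau

universe u

variable {G : Type u} [Group G] [Fintype G] {N T : Subgroup G} [hN : N.Normal] [Fintype N]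
  [Fintype T] {M : Ideal AlgInt} {b : Set (IrrCharacter N)}

open Classical in
/-- The characteristic function of the `p`-regular elements. -/
noncomputable def regInd (p : ℕ) (G : Type u) [Group G] : G → ℂ := fun g => if p ∣ orderOf g then 0 else 1

omit [Fintype G] in
theorem isClassFunction_regInd (p : ℕ) : IsClassFunction G (regInd p G) := by
  intro g c
  unfold regInd
  have : orderOf (c * g * c⁻¹) = orderOf g := (MulEquiv.orderOf_eq (MulAut.conj c) g)
  rw [this]

omit [Fintype G] in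
theorem regPart_eq_mul (p : ℕ) (f : G → ℂ) : regPart p f = f * regInd p G := by
  classical
  funext g
  by_cases h : p ∣ orderOf g
  · rw [regPart_of_dvd h, Pi.mul_apply, regInd, if_pos h, mul_zero]
  · rw [regPart_of_not_dvd h, Pi.mul_apply, regInd, if_neg h, mul_one]

omit [Fintype G] [Fintype T] in
theorem res_regInd (p : ℕ) : res T (regInd p G) = regInd p T := by
  funext t
  unfold regInd
  rw [res_apply, Subgroup.orderOf_coe]

omit [Fintype T] in
/-- Induction commutes with the restriction to the `p`-regular elements. -/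
theorem regPart_indFun (p : ℕ) (θ : T → ℂ) : regPart p (indFun T θ) = indFun T (regPart p θ) := by
  rw [regPart_eq_mul, regPart_eq_mul, ← res_regInd, indFun_mul T θ (isClassFunction_regInd p)]

/-- Frobenius reciprocity for the product on the `p`-regular elements. -/
theorem rg_indFun (p : ℕ) (θ : T → ℂ) {χ : G → ℂ} (hχ : IsClassFunction G χ) :
    rg p (indFun T θ) χ = rg p θ (res T χ) := by
  rw [rg_eq_classInner, rg_eq_classInner, regPart_indFun, classInner_indFun_left T _ hχ]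

section corr

variable (p : ℕ) [Fact p.Prime]

/-- Injectivity of the induction on the block `B'`. -/
theorem ind_inj (hM : IsPModular p M) (hb : IsPBlock M b)
    (hst : IsStab b T) (hNT : N ≤ T) {B' : Set (IrrCharacter T)} (hB' : IsPBlock M B')
    {ψ₀ : IrrCharacter T} (hψ₀ : ψ₀ ∈ B') {θ₀ : IrrCharacter N} (hθ₀ : θ₀ ∈ b)
    (h₀ : classInner (resTo hNT (ψ₀ : T → ℂ)) (θ₀ : N → ℂ) ≠ 0) {ψ η : IrrCharacter T}
    (hψ : ψ ∈ B') (hη : η ∈ B') (hc : classInner (res T (indFun T (ψ : T → ℂ))) (η : T → ℂ) ≠ 0) : η = ψ := by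
  have hprime : M.IsPrime := Blocks.Local.isPrime_of_isPModular hM
  obtain ⟨θ, hθ⟩ := exists_over hNT ψ.2
  obtain ⟨θ', hθ'⟩ := exists_over hNT η.2
  have h1 := over_of_mem p hM hb hst hNT hB' hψ₀ hθ₀ h₀ hψ hθ
  have h2 := over_of_mem p hM hb hst hNT hB' hψ₀ hθ₀ h₀ hη hθ'
  exact Subtype.ext (eq_of_constituent hb hst hNT ψ.2 η.2 h1 h2 hθ hθ' hc)

/-- Induction as a bijection from `B'` onto the induced block. -/
theorem exists_equiv (hM : IsPModular p M) (hb : IsPBlock M b)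
    (hst : IsStab b T) (hNT : N ≤ T) {B' : Set (IrrCharacter T)} (hB' : IsPBlock M B')
    {ψ₀ : IrrCharacter T} (hψ₀ : ψ₀ ∈ B') {θ₀ : IrrCharacter N} (hθ₀ : θ₀ ∈ b)
    (h₀ : classInner (resTo hNT (ψ₀ : T → ℂ)) (θ₀ : N → ℂ) ≠ 0)
    {B : Set (IrrCharacter G)} (hi : IsInducedBlock M T B' B) :
    ∃ e : B' ≃ B, ∀ ψ : B', ((e ψ : IrrCharacter G) : G → ℂ) = indFun T ((ψ : IrrCharacter T) : T → ℂ) := by
  have hmem := mem_induced_iff p hM hb hst hNT hB' hψ₀ hθ₀ h₀ hi
  have hirr : ∀ ψ ∈ B', IsIrrCharacter G (indFun T ((ψ : IrrCharacter T) : T → ℂ)) := fun ψ hψ =>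
    (isInducedBlock_ind p hM hb hst hNT hB' hψ₀ hθ₀ h₀ hψ).1
  let f : B' → B := fun ψ => ⟨⟨_, hirr ψ ψ.2⟩, (hmem _).2 ⟨ψ, ψ.2, rfl⟩⟩
  have hf : ∀ ψ : B', ((f ψ : IrrCharacter G) : G → ℂ) = indFun T ((ψ : IrrCharacter T) : T → ℂ) := fun ψ => rfl
  have hbij : Function.Bijective f := by
    constructor
    · intro ψ η h
      have h1 : indFun T ((ψ : IrrCharacter T) : T → ℂ) = indFun T ((η : IrrCharacter T) : T → ℂ) := by
        rw [← hf, ← hf, h]
      refine Subtype.ext (ind_inj p hM hb hst hNT hB' hψ₀ hθ₀ h₀ η.2 ψ.2 ?_)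
      rw [← h1, ← classInner_indFun_right T _ (isIrr_isClassFunction (hirr ψ ψ.2)),
        classInner_irr_self (hirr ψ ψ.2)]
      exact one_ne_zero
    · intro χ
      obtain ⟨ψ, hψ, h⟩ := (hmem χ).1 χ.2
      exact ⟨⟨ψ, hψ⟩, Subtype.ext (Subtype.ext h.symm)⟩
  exact ⟨Equiv.ofBijective f hbij, hf⟩

theorem card_eq (hM : IsPModular p M) (hb : IsPBlock M b)
    (hst : IsStab b T) (hNT : N ≤ T) {B' : Set (IrrCharacter T)} (hB' : IsPBlock M B')
    {ψ₀ : IrrCharacter T} (hψ₀ : ψ₀ ∈ B') {θ₀ : IrrCharacter N} (hθ₀ : θ₀ ∈ b)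
    (h₀ : classInner (resTo hNT (ψ₀ : T → ℂ)) (θ₀ : N → ℂ) ≠ 0)
    {B : Set (IrrCharacter G)} (hi : IsInducedBlock M T B' B) : Nat.card B = Nat.card B' := by
  obtain ⟨e, -⟩ := exists_equiv p hM hb hst hNT hB' hψ₀ hθ₀ h₀ hi
  exact (Nat.card_congr e).symm

/-- The product on the `p`-regular elements is preserved. -/
theorem rg_ind_ind (hM : IsPModular p M) (hb : IsPBlock M b)
    (hst : IsStab b T) (hNT : N ≤ T) {B' : Set (IrrCharacter T)} (hB' : IsPBlock M B')
    {ψ₀ : IrrCharacter T} (hψ₀ : ψ₀ ∈ B') {θ₀ : IrrCharacter N} (hθ₀ : θ₀ ∈ b)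
    (h₀ : classInner (resTo hNT (ψ₀ : T → ℂ)) (θ₀ : N → ℂ) ≠ 0) {ψ η : IrrCharacter T}
    (hψ : ψ ∈ B') (hη : η ∈ B') :
    rg p (indFun T (ψ : T → ℂ)) (indFun T (η : T → ℂ)) = rg p (ψ : T → ℂ) (η : T → ℂ) := by
  classical
  have : Finite (IrrCharacter T) := finite_irr
  have := Fintype.ofFinite (IrrCharacter T)
  have hirrη := (isInducedBlock_ind p hM hb hst hNT hB' hψ₀ hθ₀ h₀ hη).1
  rw [rg_indFun p _ (isIrr_isClassFunction hirrη)]
  have hcl : IsClassFunction T (res T (indFun T (η : T → ℂ))) :=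
    isClassFunction_res T (isIrr_isClassFunction hirrη)
  have h1 := classFunction_eq_sum hcl
  rw [h1, rg_eq_classInner, classInner_sum_right]
  rw [Finset.sum_eq_single η]
  · rw [classInner_smul_right, ← classInner_indFun_right T _ (isIrr_isClassFunction hirrη),
      classInner_irr_self hirrη, map_one, one_mul, rg_eq_classInner]
  · intro ζ _ hζ
    rw [classInner_smul_right, ← rg_eq_classInner]
    by_cases hζB : ζ ∈ B'
    · have : classInner (res T (indFun T (η : T → ℂ))) (ζ : T → ℂ) = 0 := by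
        by_contra hne
        exact hζ (ind_inj p hM hb hst hNT hB' hψ₀ hθ₀ h₀ hη hζB hne)
      rw [this, map_zero, zero_mul]
    · rw [rg_eq_zero hM hB' hψ hζB, mul_zero]
  · intro h
    exact absurd (Finset.mem_univ _) h

theorem rank_eq (hM : IsPModular p M) (hb : IsPBlock M b)
    (hst : IsStab b T) (hNT : N ≤ T) {B' : Set (IrrCharacter T)} (hB' : IsPBlock M B')
    {ψ₀ : IrrCharacter T} (hψ₀ : ψ₀ ∈ B') {θ₀ : IrrCharacter N} (hθ₀ : θ₀ ∈ b)
    (h₀ : classInner (resTo hNT (ψ₀ : T → ℂ)) (θ₀ : N → ℂ) ≠ 0)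
    {B : Set (IrrCharacter G)} (hi : IsInducedBlock M T B' B) : blockRank p B = blockRank p B' := by
  classical
  have : Finite (IrrCharacter T) := finite_irr
  have : Finite (IrrCharacter G) := finite_irr
  have := Fintype.ofFinite B
  have := Fintype.ofFinite B'
  obtain ⟨e, he⟩ := exists_equiv p hM hb hst hNT hB' hψ₀ hθ₀ h₀ hi
  have h1 := sum_rg_self hM hi.2.1 (B := B)
  have h2 := sum_rg_self hM hB'
  have h3 : (blockRank p B : ℂ) = blockRank p B' := by
    rw [← h1, ← h2, ← e.sum_comp]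
    refine Finset.sum_congr rfl fun ψ _ => ?_
    rw [he, rg_ind_ind p hM hb hst hNT hB' hψ₀ hθ₀ h₀ ψ.2 ψ.2]
  exact_mod_cast h3

end corr

end Cfsg.Agent.H625.FongRank
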