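import Mathlib
import Cfsg.Agent.H159.AlgUnits

/-!
Arithmetic and field theory for the rows of the nilpotent Hall cluster.
-/

set_option autoImplicit false

namespace Cfsg.Agent.H625.NHArith

open Module

/-- A central quotient: `|G : C(x)|` and `|G/Z : C(xZ)|` differ by a power of `p` for a `p`-element. -/
theorem dvd_index_quot {G : Type*} [Group G] [Finite G] (Z : Subgroup G) [Z.Normal]
    (hZ : Z ≤ Subgroup.center G) {p q : ℕ} (hp : p.Prime) (hq : q.Prime) (hpq : p ≠ q) (x : G)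
    (hx : ∃ k : ℕ, orderOf x = p ^ k) (hd : q ∣ (Subgroup.centralizer ({x} : Set G)).index) :
    q ∣ (Subgroup.centralizer ({(QuotientGroup.mk x : G ⧸ Z)} : Set (G ⧸ Z))).index := by
  obtain ⟨k, hk⟩ := hx
  set D : Subgroup G := (Subgroup.centralizer ({(QuotientGroup.mk x : G ⧸ Z)} : Set (G ⧸ Z))).comap
    (QuotientGroup.mk' Z) with hD
  have hDi : D.index = (Subgroup.centralizer ({(QuotientGroup.mk x : G ⧸ Z)} : Set (G ⧸ Z))).index :=
    Subgroup.index_comap_of_surjective _ (QuotientGroup.mk'_surjective Z)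
  rw [← hDi]
  have hCD : Subgroup.centralizer ({x} : Set G) ≤ D := by
    intro g hg
    rw [Subgroup.mem_centralizer_singleton_iff] at hg
    rw [hD, Subgroup.mem_comap, Subgroup.mem_centralizer_singleton_iff]
    show (QuotientGroup.mk g : G ⧸ Z) * QuotientGroup.mk x = QuotientGroup.mk x * QuotientGroup.mk g
    rw [← QuotientGroup.mk_mul, hg, QuotientGroup.mk_mul]
  have hmem : ∀ d ∈ D, d * x * d⁻¹ * x⁻¹ ∈ Z := by
    intro d hd
    rw [hD, Subgroup.mem_comap, Subgroup.mem_centralizer_singleton_iff] at hd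
    have h1 : (QuotientGroup.mk d : G ⧸ Z) * QuotientGroup.mk x = QuotientGroup.mk x * QuotientGroup.mk d := hd
    rw [← QuotientGroup.eq_one_iff]
    simp only [QuotientGroup.mk_mul, QuotientGroup.mk_inv]
    rw [h1]
    group
  have hcen : ∀ z ∈ Z, ∀ g : G, z * g = g * z := fun z hz g =>
    (Subgroup.mem_center_iff.1 (hZ hz) g).symm
  let f : D →* G :=
    { toFun := fun d => (d : G) * x * (d : G)⁻¹ * x⁻¹
      map_one' := by simp
      map_mul' := by
        intro a b
        have h1 := hcen _ (hmem b b.2)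
        show (a * b : G) * x * (a * b : G)⁻¹ * x⁻¹ = (a * x * (a : G)⁻¹ * x⁻¹) * (b * x * (b : G)⁻¹ * x⁻¹)
        have h2 : (a * b : G) * x * (a * b : G)⁻¹ * x⁻¹
            = a * (b * x * (b : G)⁻¹ * x⁻¹) * x * (a : G)⁻¹ * x⁻¹ := by group
        rw [h2, ← h1 (a : G)]
        have h3 : (b * x * (b : G)⁻¹ * x⁻¹) * a * x * (a : G)⁻¹ * x⁻¹
            = (b * x * (b : G)⁻¹ * x⁻¹) * (a * x * (a : G)⁻¹ * x⁻¹) := by group
        rw [h3, h1] }
  have hfk : f.ker = (Subgroup.centralizer ({x} : Set G)).subgroupOf D := by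
    ext d
    rw [MonoidHom.mem_ker, Subgroup.mem_subgroupOf, Subgroup.mem_centralizer_singleton_iff]
    show (d : G) * x * (d : G)⁻¹ * x⁻¹ = 1 ↔ _
    rw [mul_inv_eq_one, mul_inv_eq_iff_eq_mul]
  have hpg : IsPGroup p f.range := by
    rintro ⟨_, d, rfl⟩
    refine ⟨k, Subtype.ext ?_⟩
    show (f d) ^ p ^ k = 1
    have h1 : f d * x = d * x * (d : G)⁻¹ := by
      show (d : G) * x * (d : G)⁻¹ * x⁻¹ * x = _
      group
    have hc : Commute (f d) x := hcen _ (hmem d d.2) x
    have h2 : (f d * x) ^ p ^ k = 1 := by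
      rw [h1, conj_pow, ← hk, pow_orderOf_eq_one]
      group
    rwa [hc.mul_pow, ← hk, pow_orderOf_eq_one x, mul_one, hk] at h2
  have : Fact p.Prime := ⟨hp⟩
  obtain ⟨j, hj⟩ := hpg.exists_card_eq
  have h1 : (Subgroup.centralizer ({x} : Set G)).relIndex D = p ^ j := by
    rw [Subgroup.relIndex, ← hfk, Subgroup.index_ker, hj]
  rw [← Subgroup.relIndex_mul_index hCD, h1] at hd
  rcases (Nat.Prime.dvd_mul hq).1 hd with h | h
  · exact absurd ((Nat.prime_dvd_prime_iff_eq hq hp).1 (hq.dvd_of_dvd_pow h)) hpq.symm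
  · exact h

/-- `q ^ d ≡ 1 (mod s)` iff the order of `q` divides `d`. -/
theorem dvd_pow_sub_one_iff {q s d : ℕ} (hq : 0 < q) : s ∣ q ^ d - 1 ↔ orderOf (q : ZMod s) ∣ d := by
  rw [orderOf_dvd_iff_pow_eq_one, ← Nat.cast_pow, ← (ZMod.natCast_eq_zero_iff (q ^ d - 1) s),
    Nat.cast_sub (Nat.one_le_pow _ _ hq), sub_eq_zero]
  simp

/-- An extension of degree `m` generated by an `s`-element. -/
theorem exists_gen (F : Type*) [Field F] [Fintype F] {m s : ℕ} (hm : 0 < m) (hs : s.Prime)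
    (hgen : ∀ d : ℕ, d ∣ m → d < m → ¬ s ^ (Fintype.card F ^ m - 1).factorization s ∣ Fintype.card F ^ d - 1) :
    ∃ (K : Type) (_ : Field K) (_ : Algebra F K) (_ : Finite K) (_ : FiniteDimensional F K) (ζ : Kˣ),
      finrank F K = m ∧ (∃ k : ℕ, orderOf ζ = s ^ k) ∧ Algebra.adjoin F {(ζ : K)} = ⊤ := by
  obtain ⟨p, hp⟩ := CharP.exists F
  have : Fact p.Prime := ⟨CharP.char_is_prime F p⟩
  obtain ⟨K, _, _, _, _, a, hK, ha, hcK⟩ := H159.exists_field_gen F p m hm.ne'
  set N := Fintype.card F ^ m - 1 with hN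
  have hcF : 1 < Fintype.card F := Fintype.one_lt_card
  have hN0 : N ≠ 0 := by
    have : 1 < Fintype.card F ^ m := Nat.one_lt_pow hm.ne' hcF
    omega
  set k := N.factorization s with hk
  have hdvd : s ^ k ∣ N := Nat.ordProj_dvd N s
  refine ⟨K, inferInstance, inferInstance, inferInstance, inferInstance, a ^ (N / s ^ k), hK, ⟨k, ?_⟩, ?_⟩
  · rw [orderOf_pow, ha, Nat.gcd_eq_right (Nat.div_dvd_of_dvd hdvd), Nat.div_div_self hdvd hN0]
  · set ζ := a ^ (N / s ^ k) with hζ
    have hoz : orderOf ζ = s ^ k := by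
      rw [hζ, orderOf_pow, ha, Nat.gcd_eq_right (Nat.div_dvd_of_dvd hdvd), Nat.div_div_self hdvd hN0]
    set L : IntermediateField F K := IntermediateField.adjoin F {(ζ : K)} with hL
    have hint : IsIntegral F (ζ : K) := IsIntegral.of_finite F _
    have hLs : L.toSubalgebra = Algebra.adjoin F {(ζ : K)} :=
      IntermediateField.adjoin_simple_toSubalgebra_of_isAlgebraic hint.isAlgebraic
    have hd : finrank F L ∣ m := by
      rw [← hK, ← finrank_mul_finrank F L K]
      exact dvd_mul_right _ _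
    have : Fintype L := Fintype.ofFinite L
    have hcL : Nat.card L = Fintype.card F ^ finrank F L := by
      rw [Nat.card_eq_fintype_card, Module.card_eq_pow_finrank (K := F) (V := L)]
    have hmem : (ζ : K) ∈ L := IntermediateField.mem_adjoin_simple_self F _
    have hsd : s ^ k ∣ Fintype.card F ^ finrank F L - 1 := by
      rw [← hoz, orderOf_dvd_iff_pow_eq_one]
      apply Units.ext
      have h1 : (⟨(ζ : K), hmem⟩ : L) ≠ 0 := by
        intro h
        exact ζ.ne_zero (congrArg Subtype.val h)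
      have h2 := FiniteField.pow_card_sub_one_eq_one (⟨(ζ : K), hmem⟩ : L) h1
      rw [← Nat.card_eq_fintype_card, hcL] at h2
      have h3 := congrArg (Subtype.val : L → K) h2
      simpa using h3
    have hm' : finrank F L = m := by
      by_contra hne
      have hle : finrank F L ≤ m := Nat.le_of_dvd hm hd
      exact hgen _ hd (lt_of_le_of_ne hle hne) hsd
    rw [← hLs]
    have : L = ⊤ := by
      apply IntermediateField.eq_of_le_of_finrank_eq le_top
      rw [hm', IntermediateField.finrank_top', hK]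
    rw [this]
    rfl

/-- Case `m` the order of `q` modulo `s`. -/
theorem exists_gen_one (F : Type*) [Field F] [Fintype F] {m s : ℕ} (hm : 0 < m) (hs : s.Prime)
    (hm' : orderOf (Fintype.card F : ZMod s) = m) :
    ∃ (K : Type) (_ : Field K) (_ : Algebra F K) (_ : Finite K) (_ : FiniteDimensional F K) (ζ : Kˣ),
      finrank F K = m ∧ (∃ k : ℕ, orderOf ζ = s ^ k) ∧ Algebra.adjoin F {(ζ : K)} = ⊤ := by
  refine exists_gen F hm hs fun d hd hlt hdv => ?_
  have hcF : 1 < Fintype.card F := Fintype.one_lt_card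
  have hN0 : Fintype.card F ^ m - 1 ≠ 0 := by
    have : 1 < Fintype.card F ^ m := Nat.one_lt_pow hm.ne' hcF
    omega
  have h1 : s ∣ Fintype.card F ^ m - 1 := (dvd_pow_sub_one_iff (by omega)).2 (by rw [hm'])
  have h2 : s ∣ Fintype.card F ^ d - 1 := by
    refine dvd_trans ?_ hdv
    refine dvd_pow_self s ?_
    have := (hs.dvd_iff_one_le_factorization hN0).1 h1
    omega
  have h3 := (dvd_pow_sub_one_iff (by omega)).1 h2
  rw [hm'] at h3
  have hd0 : 0 < d := Nat.pos_of_dvd_of_pos hd hm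
  exact absurd (Nat.le_of_dvd hd0 h3) (by omega)

/-- `s` divides `(q ^ (e * s) - 1) / (q ^ e - 1)` if it divides `q ^ e - 1`. -/
theorem factorization_lt {q e s : ℕ} (hq : 1 < q) (he : 0 < e) (hs : s.Prime) (h : s ∣ q ^ e - 1) :
    (q ^ e - 1).factorization s < (q ^ (e * s) - 1).factorization s := by
  have h1 : 1 < q ^ e := Nat.one_lt_pow he.ne' hq
  have h2 : 1 < q ^ (e * s) := Nat.one_lt_pow (Nat.mul_ne_zero he.ne' hs.ne_zero) hq
  have hgs : q ^ (e * s) - 1 = (q ^ e - 1) * ∑ i ∈ Finset.range s, (q ^ e) ^ i := by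
    rw [pow_mul, mul_comm]
    have := Nat.geomSum_eq (m := q ^ e) (by omega) s
    rw [this, Nat.div_mul_cancel]
    exact Nat.sub_one_dvd_pow_sub_one _ _
  have hsd : s ∣ ∑ i ∈ Finset.range s, (q ^ e) ^ i := by
    rw [← (ZMod.natCast_eq_zero_iff _ s)]
    have h3 : ((q ^ e : ℕ) : ZMod s) = 1 := by
      have h4 : ((q ^ e - 1 : ℕ) : ZMod s) = 0 := (ZMod.natCast_eq_zero_iff _ s).2 h
      rw [Nat.cast_sub h1.le, Nat.cast_one, sub_eq_zero] at h4
      exact h4
    rw [Nat.cast_sum]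
    simp only [Nat.cast_pow] at h3 ⊢
    simp [h3]
  have hs0 : (∑ i ∈ Finset.range s, (q ^ e) ^ i) ≠ 0 := by
    intro h0
    rw [h0, mul_zero] at hgs
    omega
  rw [hgs, Nat.factorization_mul (by omega) hs0, Finsupp.add_apply]
  have := (hs.dvd_iff_one_le_factorization hs0).1 hsd
  omega

/-- Case `m = e s`. -/
theorem exists_gen_two (F : Type*) [Field F] [Fintype F] {e s : ℕ} (he : 0 < e) (hs : s.Prime)
    (he' : orderOf (Fintype.card F : ZMod s) = e) :
    ∃ (K : Type) (_ : Field K) (_ : Algebra F K) (_ : Finite K) (_ : FiniteDimensional F K) (ζ : Kˣ),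
      finrank F K = e * s ∧ (∃ k : ℕ, orderOf ζ = s ^ k) ∧ Algebra.adjoin F {(ζ : K)} = ⊤ := by
  have hcF : 1 < Fintype.card F := Fintype.one_lt_card
  have h1 : s ∣ Fintype.card F ^ e - 1 := (dvd_pow_sub_one_iff (by omega)).2 (by rw [he'])
  have hlt := factorization_lt hcF he hs h1
  refine exists_gen F (Nat.mul_pos he hs.pos) hs fun d hd hdlt hdv => ?_
  have h2 : s ∣ Fintype.card F ^ d - 1 := by
    refine dvd_trans ?_ hdv
    exact dvd_pow_self s (by omega)
  have h3 := (dvd_pow_sub_one_iff (by omega)).1 h2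
  rw [he'] at h3
  obtain ⟨t, rfl⟩ := h3
  have ht : t ∣ s := Nat.dvd_of_mul_dvd_mul_left he hd
  rcases (Nat.dvd_prime hs).1 ht with rfl | rfl
  · rw [mul_one] at hdv
    have h5 : Fintype.card F ^ e - 1 ≠ 0 := by
      have := Nat.one_lt_pow he.ne' hcF
      omega
    have := (hs.pow_dvd_iff_le_factorization h5).1 hdv
    omega
  · omega

/-- Powers of `q ^ j - 1` for `j = e t`, `t < p`. -/
theorem factorization_eq {q e p t : ℕ} (hq : 1 < q) (he : 0 < e) (hp : p.Prime) (h : p ∣ q ^ e - 1)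
    (ht : 0 < t) (htp : t < p) :
    (q ^ (e * t) - 1).factorization p = (q ^ e - 1).factorization p := by
  have h1 : 1 < q ^ e := Nat.one_lt_pow he.ne' hq
  have h2 : 1 < q ^ (e * t) := Nat.one_lt_pow (Nat.mul_ne_zero he.ne' ht.ne') hq
  have hgs : q ^ (e * t) - 1 = (q ^ e - 1) * ∑ i ∈ Finset.range t, (q ^ e) ^ i := by
    rw [pow_mul, mul_comm]
    have := Nat.geomSum_eq (m := q ^ e) (by omega) t
    rw [this, Nat.div_mul_cancel]
    exact Nat.sub_one_dvd_pow_sub_one _ _
  have hsd : ¬ p ∣ ∑ i ∈ Finset.range t, (q ^ e) ^ i := by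
    rw [← (ZMod.natCast_eq_zero_iff _ p)]
    have h3 : ((q ^ e : ℕ) : ZMod p) = 1 := by
      have h4 : ((q ^ e - 1 : ℕ) : ZMod p) = 0 := (ZMod.natCast_eq_zero_iff _ p).2 h
      rw [Nat.cast_sub h1.le, Nat.cast_one, sub_eq_zero] at h4
      exact h4
    rw [Nat.cast_sum]
    simp only [Nat.cast_pow] at h3 ⊢
    simp only [h3, one_pow, Finset.sum_const, Finset.card_range, nsmul_eq_mul, mul_one]
    rw [ZMod.natCast_eq_zero_iff]
    exact Nat.not_dvd_of_pos_of_lt ht htp
  have hs0 : (∑ i ∈ Finset.range t, (q ^ e) ^ i) ≠ 0 := by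
    intro h0
    exact hsd (h0 ▸ dvd_zero _)
  rw [hgs, Nat.factorization_mul (by omega) hs0, Finsupp.add_apply,
    Nat.factorization_eq_zero_of_not_dvd hsd, add_zero]

end Cfsg.Agent.H625.NHArith
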