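import Mathlib

/-!
Elements of `SL_n(F)` acting as an element of an extension field on a subspace and diagonally on a
complement: centralizer orders.
-/

set_option autoImplicit false

namespace Cfsg.Agent.H625.NHLin

open Module

section Block

variable {F K : Type*} [Field F] [Field K] [Algebra F K] {ι : Type*}

/-- An endomorphism of `K × F^ι` commuting with `(ζ, δ)` (`K = F(ζ) ≠ F`) is block diagonal. -/
theorem block_of_comm (ζ : K) (δ : ι → F) [Finite ι] (hζ : Algebra.adjoin F {ζ} = ⊤)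
    (hne : ∀ a : F, algebraMap F K a ≠ ζ)
    (g : (K × (ι → F)) →ₗ[F] (K × (ι → F)))
    (hg : ∀ v : K × (ι → F), g (ζ * v.1, fun j => δ j * v.2 j) = (ζ * (g v).1, fun j => δ j * (g v).2 j)) :
    ∃ (a : K) (β : (ι → F) →ₗ[F] (ι → F)), ∀ v : K × (ι → F), g v = (a * v.1, β v.2) := by
  classical
  have := Fintype.ofFinite ι
  -- `K → F^ι` vanishes
  have h1 : ∀ k : K, (g (k, 0)).2 = 0 := by
    intro k
    funext j
    have hz : ζ - algebraMap F K (δ j) ≠ 0 := sub_ne_zero.2 (hne (δ j)).symm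
    set k' : K := (ζ - algebraMap F K (δ j))⁻¹ * k with hk'
    have h2 : ζ * k' - algebraMap F K (δ j) * k' = k := by
      rw [← sub_mul, hk', ← mul_assoc, mul_inv_cancel₀ hz, one_mul]
    have h3 : g (ζ * k', 0) = (ζ * (g (k', 0)).1, fun j => δ j * (g (k', 0)).2 j) := by
      have h6 := hg (k', 0)
      have h7 : (fun j => δ j * ((k', (0 : ι → F)) : K × (ι → F)).2 j) = 0 := by
        funext j; simp
      rw [h7] at h6
      exact h6
    have h4 : g (algebraMap F K (δ j) * k', 0) = δ j • g (k', 0) := by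
      rw [← map_smul]
      congr 1
      ext
      · simp [Algebra.smul_def]
      · simp
    have h5 : (k, (0 : ι → F)) = (ζ * k', 0) - (algebraMap F K (δ j) * k', 0) := by
      ext
      · simp [h2]
      · simp
    rw [h5, map_sub, h3, h4]
    simp
  have h2 : ∀ w : ι → F, (g (0, w)).1 = 0 := by
    have hsing : ∀ j : ι, (g (0, Pi.single j 1)).1 = 0 := by
      intro j
      have hz : ζ - algebraMap F K (δ j) ≠ 0 := sub_ne_zero.2 (hne (δ j)).symm
      have h3 := hg (0, Pi.single j 1)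
      have h4 : (ζ * ((0 : K), (Pi.single j 1 : ι → F)).1,
          fun i => δ i * ((0 : K), (Pi.single j 1 : ι → F)).2 i) = δ j • ((0 : K), (Pi.single j 1 : ι → F)) := by
        ext i
        · simp
        · by_cases hij : i = j
          · subst hij; simp
          · simp [hij]
      rw [h4, map_smul] at h3
      have h5 := congrArg Prod.fst h3
      have h6 : (ζ - algebraMap F K (δ j)) * (g (0, Pi.single j 1)).1 = 0 := by
        have h7 : (δ j • g (0, Pi.single j 1)).1 = ζ * (g (0, Pi.single j 1)).1 := h5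
        rw [Prod.smul_fst, Algebra.smul_def] at h7
        rw [sub_mul, ← h7, sub_self]
      exact (mul_eq_zero.1 h6).resolve_left hz
    intro w
    have h3 : ((0 : K), w) = ∑ j, w j • ((0 : K), (Pi.single j 1 : ι → F)) := by
      ext i
      · simp [Prod.fst_sum]
      · simp [Prod.snd_sum, Finset.sum_apply, Pi.single_apply]
    rw [h3, map_sum, Prod.fst_sum]
    refine Finset.sum_eq_zero fun j _ => ?_
    rw [map_smul, Prod.smul_fst, hsing, smul_zero]
  have h3 : ∀ x : K, ∀ k : K, (g (x * k, 0)).1 = x * (g (k, 0)).1 := by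
    intro x
    have hx : x ∈ Algebra.adjoin F {ζ} := by rw [hζ]; trivial
    induction hx using Algebra.adjoin_induction with
    | mem x hx =>
      rw [Set.mem_singleton_iff] at hx
      subst hx
      intro k
      have h6 := hg (k, 0)
      have h7 : (fun j => δ j * ((k, (0 : ι → F)) : K × (ι → F)).2 j) = 0 := by
        funext j; simp
      rw [h7] at h6
      exact congrArg Prod.fst h6
    | algebraMap a =>
      intro k
      have h4 : ((algebraMap F K a * k, 0) : K × (ι → F)) = a • (k, 0) := by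
        ext
        · simp [Algebra.smul_def]
        · simp
      rw [h4, map_smul, Prod.smul_fst, Algebra.smul_def]
    | add x y _ _ hx hy =>
      intro k
      have h4 : (((x + y) * k, 0) : K × (ι → F)) = (x * k, 0) + (y * k, 0) := by
        ext
        · simp [add_mul]
        · simp
      rw [h4, map_add, Prod.fst_add, hx, hy, add_mul]
    | mul x y _ _ hx hy =>
      intro k
      rw [mul_assoc, hx, hy, mul_assoc]
  refine ⟨(g (1, 0)).1, LinearMap.snd F K (ι → F) ∘ₗ g ∘ₗ LinearMap.inr F K (ι → F), fun v => ?_⟩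
  have h4 : v = (v.1, 0) + (0, v.2) := by ext <;> simp
  have h5 : g v = g (v.1, 0) + g (0, v.2) := by rw [← map_add, ← h4]
  ext i
  · rw [h5, Prod.fst_add, h2, add_zero]
    have := h3 v.1 1
    rw [mul_one] at this
    rw [this, mul_comm]
  · rw [h5, Prod.snd_add, h1, zero_add]
    rfl

/-- Block diagonal units. -/
noncomputable def blk (F K ι : Type*) [Field F] [Field K] [Algebra F K] :
    Kˣ × ((ι → F) →ₗ[F] (ι → F))ˣ →* ((K × (ι → F)) →ₗ[F] (K × (ι → F)))ˣ :=
  (Units.map (LinearMap.prodMapRingHom F K (ι → F) : _ →* _)).comp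
    ((MulEquiv.prodUnits.symm.toMonoidHom).comp
      ((Units.map ((Algebra.lmul F K : K →ₐ[F] Module.End F K) : K →* Module.End F K)).prodMap
        (MonoidHom.id _)))

theorem blk_apply (a : Kˣ) (β : ((ι → F) →ₗ[F] (ι → F))ˣ) (v : K × (ι → F)) :
    (blk F K ι (a, β) : (K × (ι → F)) →ₗ[F] (K × (ι → F))) v
      = ((a : K) * v.1, (β : (ι → F) →ₗ[F] (ι → F)) v.2) := rfl

theorem blk_injective : Function.Injective (blk F K ι) := by
  rw [injective_iff_map_eq_one]
  rintro ⟨a, β⟩ h
  have h1 : ∀ v : K × (ι → F), ((a : K) * v.1, (β : (ι → F) →ₗ[F] (ι → F)) v.2) = v := by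
    intro v
    rw [← blk_apply, h]
    rfl
  refine Prod.ext (Units.ext ?_) (Units.ext (LinearMap.ext fun w => ?_))
  · have := congrArg Prod.fst (h1 (1, 0))
    simpa using this
  · have := congrArg Prod.snd (h1 (0, w))
    simpa using this

theorem blk_det [Finite ι] [FiniteDimensional F K] (a : Kˣ) (β : ((ι → F) →ₗ[F] (ι → F))ˣ) :
    LinearMap.det (blk F K ι (a, β) : (K × (ι → F)) →ₗ[F] (K × (ι → F)))
      = Algebra.norm F (a : K) * LinearMap.det (β : (ι → F) →ₗ[F] (ι → F)) := by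
  have h : (blk F K ι (a, β) : (K × (ι → F)) →ₗ[F] (K × (ι → F)))
      = (Algebra.lmul F K (a : K)).prodMap (β : (ι → F) →ₗ[F] (ι → F)) := rfl
  rw [h, LinearMap.det_prodMap, Algebra.norm_apply]

/-- The diagonal unit. -/
noncomputable def dg (F ι : Type*) [Field F] [DecidableEq ι] [Fintype ι] :
    (ι → Fˣ) →* ((ι → F) →ₗ[F] (ι → F))ˣ :=
  (Units.map ((Matrix.toLinAlgEquiv' : Matrix ι ι F ≃ₐ[F] _) : Matrix ι ι F →* _)).comp
    ((Units.map (Matrix.diagonalRingHom ι F : (ι → F) →* Matrix ι ι F)).comp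
      (MulEquiv.piUnits.symm.toMonoidHom))

variable [DecidableEq ι] [Fintype ι]

theorem dg_apply (δ : ι → Fˣ) (w : ι → F) (i : ι) :
    (dg F ι δ : (ι → F) →ₗ[F] (ι → F)) w i = δ i * w i := by
  show Matrix.toLin' (Matrix.diagonal fun i => (δ i : F)) w i = _
  rw [Matrix.toLin'_apply, Matrix.mulVec_diagonal]

theorem dg_det (δ : ι → Fˣ) :
    LinearMap.det (dg F ι δ : (ι → F) →ₗ[F] (ι → F)) = ∏ i, (δ i : F) := by
  show LinearMap.det (Matrix.toLin' (Matrix.diagonal fun i => (δ i : F))) = _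
  rw [LinearMap.det_toLin', Matrix.det_diagonal]

theorem centralizer_le (ζ : Kˣ) (δ : ι → Fˣ) (hζ : Algebra.adjoin F {(ζ : K)} = ⊤)
    (hne : ∀ a : F, algebraMap F K a ≠ ζ) :
    Subgroup.centralizer {blk F K ι (ζ, dg F ι δ)} ≤ (blk F K ι).range := by
  have key : ∀ g : ((K × (ι → F)) →ₗ[F] (K × (ι → F)))ˣ,
      g ∈ Subgroup.centralizer {blk F K ι (ζ, dg F ι δ)} →
      ∃ (a : K) (β : (ι → F) →ₗ[F] (ι → F)), ∀ v : K × (ι → F),
        (g : (K × (ι → F)) →ₗ[F] (K × (ι → F))) v = (a * v.1, β v.2) := by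
    intro g hg
    refine block_of_comm (ζ : K) (fun j => (δ j : F)) hζ hne g fun v => ?_
    rw [Subgroup.mem_centralizer_singleton_iff] at hg
    have h1 : (g : (K × (ι → F)) →ₗ[F] (K × (ι → F)))
          ((blk F K ι (ζ, dg F ι δ) : (K × (ι → F)) →ₗ[F] (K × (ι → F))) v)
        = (blk F K ι (ζ, dg F ι δ) : (K × (ι → F)) →ₗ[F] (K × (ι → F)))
          ((g : (K × (ι → F)) →ₗ[F] (K × (ι → F))) v) := by
      have := congrArg (fun u : ((K × (ι → F)) →ₗ[F] (K × (ι → F)))ˣ =>
        (u : (K × (ι → F)) →ₗ[F] (K × (ι → F))) v) hg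
      simpa using this
    rw [blk_apply, blk_apply] at h1
    have e1 : ∀ w : ι → F, (dg F ι δ : (ι → F) →ₗ[F] (ι → F)) w = fun j => (δ j : F) * w j :=
      fun w => funext fun j => dg_apply δ w j
    rw [e1, e1] at h1
    exact h1
  intro g hg
  obtain ⟨a, β, h1⟩ := key g hg
  obtain ⟨a', β', h2⟩ := key g⁻¹ (Subgroup.inv_mem _ hg)
  have h3 : ∀ v : K × (ι → F), (a * (a' * v.1), β (β' v.2)) = v := by
    intro v
    rw [← h1 (a' * v.1, β' v.2), ← h2 v]
    have : ((g * g⁻¹ : ((K × (ι → F)) →ₗ[F] (K × (ι → F)))ˣ) : (K × (ι → F)) →ₗ[F] (K × (ι → F))) v = v := by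
      rw [mul_inv_cancel]; rfl
    exact this
  have h4 : ∀ v : K × (ι → F), (a' * (a * v.1), β' (β v.2)) = v := by
    intro v
    rw [← h2 (a * v.1, β v.2), ← h1 v]
    have : ((g⁻¹ * g : ((K × (ι → F)) →ₗ[F] (K × (ι → F)))ˣ) : (K × (ι → F)) →ₗ[F] (K × (ι → F))) v = v := by
      rw [inv_mul_cancel]; rfl
    exact this
  have ha : a * a' = 1 := by
    have := congrArg Prod.fst (h3 (1, 0))
    simpa using this
  have ha' : a' * a = 1 := by rw [mul_comm]; exact ha
  refine ⟨(⟨a, a', ha, ha'⟩, ⟨β, β', LinearMap.ext fun w => ?_, LinearMap.ext fun w => ?_⟩),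
    Units.ext (LinearMap.ext fun v => ?_)⟩
  · have := congrArg Prod.snd (h3 (0, w))
    simpa using this
  · have := congrArg Prod.snd (h4 (0, w))
    simpa using this
  · rw [blk_apply, h1]

end Block

end Cfsg.Agent.H625.NHLin
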