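import Mathlib
import Cfsg.Agent.H625.NHLin
import Cfsg.Agent.H625.NHArith

/-!
`SL_n(F)`: elements of prime power order with small centralizers, tori.
-/

set_option autoImplicit false

namespace Cfsg.Agent.H625.NHSl

open Module NHLin NHArith

variable {F : Type*} [Field F] [Fintype F]

/-- `N ⊔ C = ⊤` gives `|N : N ∩ C| = |G : C|`. -/
theorem relIndex_eq {G : Type*} [Group G] [Finite G] (N C : Subgroup G) [N.Normal] :
    C.relIndex N = C.relIndex (N ⊔ C) := by
  have e1 : (C ⊓ N).relIndex C * C.relIndex (N ⊔ C) = (C ⊓ N).relIndex (N ⊔ C) :=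
    Subgroup.relIndex_mul_relIndex _ _ _ inf_le_left le_sup_right
  have e2 : (C ⊓ N).relIndex N * N.relIndex (N ⊔ C) = (C ⊓ N).relIndex (N ⊔ C) :=
    Subgroup.relIndex_mul_relIndex _ _ _ inf_le_right le_sup_left
  rw [Subgroup.inf_relIndex_left] at e1
  rw [Subgroup.inf_relIndex_right] at e2
  have e3 : N.relIndex (N ⊔ C) = N.relIndex C := by
    rw [sup_comm]
    exact Subgroup.relIndex_sup_right (K := N) (H := C)
  rw [e3] at e2
  have h0 : 0 < N.relIndex C := Nat.pos_of_ne_zero Subgroup.index_ne_zero_of_finite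
  refine Nat.eq_of_mul_eq_mul_left h0 ?_
  rw [mul_comm, e2, ← e1]

theorem relIndex_dvd {G : Type*} [Group G] [Finite G] (N C : Subgroup G) [N.Normal] :
    C.relIndex N ∣ C.index := by
  rw [relIndex_eq]
  exact Subgroup.relIndex_dvd_index_of_le le_sup_right

theorem relIndex_eq_index {G : Type*} [Group G] [Finite G] (N C : Subgroup G) [N.Normal] (h : N ⊔ C = ⊤) :
    C.relIndex N = C.index := by
  rw [relIndex_eq, h, Subgroup.relIndex_top_right]

/-- The order of `GL`. -/
theorem card_units_end (V : Type*) [AddCommGroup V] [Module F V] [FiniteDimensional F V] {n : ℕ}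
    (hn : finrank F V = n) :
    Nat.card ((V →ₗ[F] V)ˣ) = ∏ i ∈ Finset.range n, (Fintype.card F ^ n - Fintype.card F ^ i) := by
  have e : (V →ₗ[F] V)ˣ ≃* Matrix.GeneralLinearGroup (Fin n) F :=
    Units.mapEquiv ((LinearMap.toMatrixAlgEquiv (finBasisOfFinrankEq F V hn)).toMulEquiv)
  rw [Nat.card_congr e.toEquiv, Matrix.card_GL_field, Finset.prod_range]

omit [Fintype F] in
theorem mem_range_toGL {n : ℕ} (g : Matrix.GeneralLinearGroup (Fin n) F)
    (hg : Matrix.GeneralLinearGroup.det g = 1) :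
    g ∈ (Matrix.SpecialLinearGroup.toGL : Matrix.SpecialLinearGroup (Fin n) F →* _).range := by
  refine ⟨⟨(g : Matrix (Fin n) (Fin n) F), ?_⟩, Units.ext rfl⟩
  have := congrArg (Units.val) hg
  simpa using this

omit [Fintype F] in
theorem range_toGL {n : ℕ} :
    (Matrix.SpecialLinearGroup.toGL : Matrix.SpecialLinearGroup (Fin n) F →* _).range
      = (Matrix.GeneralLinearGroup.det : Matrix.GeneralLinearGroup (Fin n) F →* Fˣ).ker := by
  ext g
  rw [MonoidHom.mem_ker]
  constructor
  · rintro ⟨h, rfl⟩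
    exact Units.ext (by simp)
  · exact mem_range_toGL g

/-- Transfer of an element `z` of `GL(V)` with determinant `1` whose centralizer has surjective
determinant to `SL_n(F)`. -/
theorem exists_sl {V : Type*} [AddCommGroup V] [Module F V] [FiniteDimensional F V] {n : ℕ}
    (hn : finrank F V = n) (z : (V →ₗ[F] V)ˣ) (hz : LinearMap.det (z : V →ₗ[F] V) = 1)
    (hdet : ∀ u : Fˣ, ∃ g ∈ Subgroup.centralizer {z}, LinearMap.det (g : V →ₗ[F] V) = u) :
    ∃ y : Matrix.SpecialLinearGroup (Fin n) F, orderOf y = orderOf z ∧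
      (Subgroup.centralizer ({y} : Set (Matrix.SpecialLinearGroup (Fin n) F))).index
        = (Subgroup.centralizer ({z} : Set ((V →ₗ[F] V)ˣ))).index := by
  classical
  set b := finBasisOfFinrankEq F V hn with hb
  set e : (V →ₗ[F] V)ˣ ≃* Matrix.GeneralLinearGroup (Fin n) F :=
    Units.mapEquiv ((LinearMap.toMatrixAlgEquiv b).toMulEquiv) with he
  have hdet' : ∀ g : (V →ₗ[F] V)ˣ, ((Matrix.GeneralLinearGroup.det (e g) : Fˣ) : F)
      = LinearMap.det (g : V →ₗ[F] V) := by
    intro g
    show Matrix.det (LinearMap.toMatrixAlgEquiv b (g : V →ₗ[F] V)) = _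
    exact LinearMap.det_toMatrix b _
  obtain ⟨y, hy⟩ := mem_range_toGL (e z) (Units.ext (by rw [hdet', hz]; rfl))
  refine ⟨y, ?_, ?_⟩
  · rw [← orderOf_injective _ Matrix.SpecialLinearGroup.toGL_injective y, hy, MulEquiv.orderOf_eq]
  · set N : Subgroup (Matrix.GeneralLinearGroup (Fin n) F) :=
      (Matrix.SpecialLinearGroup.toGL : Matrix.SpecialLinearGroup (Fin n) F →* _).range with hN
    have hNn : N.Normal := by rw [hN, range_toGL]; infer_instance
    set C : Subgroup (Matrix.GeneralLinearGroup (Fin n) F) := Subgroup.centralizer {e z} with hC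
    have h1 : Subgroup.centralizer ({y} : Set (Matrix.SpecialLinearGroup (Fin n) F))
        = C.comap Matrix.SpecialLinearGroup.toGL := by
      ext g
      rw [Subgroup.mem_comap, hC, Subgroup.mem_centralizer_singleton_iff,
        Subgroup.mem_centralizer_singleton_iff, ← hy, ← map_mul, ← map_mul]
      exact (Matrix.SpecialLinearGroup.toGL_injective.eq_iff).symm
    have h2 : C = (Subgroup.centralizer ({z} : Set ((V →ₗ[F] V)ˣ))).map (e : (V →ₗ[F] V)ˣ →* _) := by
      ext g
      rw [hC, Subgroup.mem_centralizer_singleton_iff, Subgroup.mem_map]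
      constructor
      · intro hg
        refine ⟨e.symm g, ?_, by simp⟩
        rw [Subgroup.mem_centralizer_singleton_iff]
        apply e.injective
        simp [hg]
      · rintro ⟨w, hw, rfl⟩
        rw [Subgroup.mem_centralizer_singleton_iff] at hw
        show e w * e z = e z * e w
        rw [← map_mul, ← map_mul, hw]
    rw [h1, Subgroup.index_comap, ← hN, relIndex_eq_index N C, h2, Subgroup.index_map_equiv]
    rw [eq_top_iff]
    intro g _
    obtain ⟨c, hc, hcd⟩ := hdet (Matrix.GeneralLinearGroup.det g)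
    have hcC : e c ∈ C := by
      rw [h2]
      exact ⟨c, hc, rfl⟩
    have hgN : g * (e c)⁻¹ ∈ N := by
      rw [hN, range_toGL, MonoidHom.mem_ker, map_mul, map_inv, mul_inv_eq_one]
      exact Units.ext (by rw [hdet', hcd])
    have : g = (g * (e c)⁻¹) * e c := by group
    rw [this]
    exact Subgroup.mul_mem _ (Subgroup.mem_sup_left hgN) (Subgroup.mem_sup_right hcC)

/-- The index of the centralizer of `(ζ, δ)`. -/
theorem index_dvd {K : Type*} [Field K] [Finite K] [Algebra F K] [FiniteDimensional F K] {m k : ℕ}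
    (hm : finrank F K = m) (ζ : Kˣ) (δ : Fin k → Fˣ) (hζ : Algebra.adjoin F {(ζ : K)} = ⊤)
    (hm2 : 2 ≤ m) {p a : ℕ} (hp : p.Prime) (ha : 0 < a) (ham : a < m) (hpa : p ∣ Fintype.card F ^ a - 1) :
    p ∣ (Subgroup.centralizer ({blk F K (Fin k) (ζ, dg F (Fin k) δ)} : Set _)).index := by
  classical
  have := Fintype.ofFinite K
  set q := Fintype.card F with hq
  have hq1 : 1 < q := Fintype.one_lt_card
  have hne : ∀ a : F, algebraMap F K a ≠ ζ := by
    intro a ha
    have h1 : Algebra.adjoin F {(ζ : K)} = ⊥ := by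
      rw [← ha]
      exact Algebra.adjoin_singleton_algebraMap K a
    rw [hζ] at h1
    have h2 := Subalgebra.bot_eq_top_iff_finrank_eq_one.1 h1.symm
    omega
  set C := Subgroup.centralizer ({blk F K (Fin k) (ζ, dg F (Fin k) δ)} : Set _) with hC
  have hCle : C ≤ (blk F K (Fin k)).range := centralizer_le ζ δ hζ hne
  -- orders
  set GW := Nat.card (((Fin k → F) →ₗ[F] (Fin k → F))ˣ) with hGW
  have hcardK : Nat.card Kˣ = q ^ m - 1 := by
    rw [Nat.card_units, Nat.card_eq_fintype_card, Module.card_eq_pow_finrank (K := F) (V := K), hm]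
  have h1 : Nat.card C ∣ (q ^ m - 1) * GW := by
    rw [← hcardK, hGW, ← Nat.card_prod]
    refine (Subgroup.card_dvd_of_le hCle).trans ?_
    exact Subgroup.card_range_dvd _
  have h2 : Nat.card ((K →ₗ[F] K)ˣ) = (q ^ m - 1) * ∏ i ∈ Finset.range (m - 1), (q ^ m - q ^ (i + 1)) := by
    rw [card_units_end K hm]
    obtain ⟨m', rfl⟩ : ∃ m', m = m' + 1 := ⟨m - 1, by omega⟩
    rw [Finset.prod_range_succ', mul_comm]
    simp [hq]
  have h3 : p ∣ ∏ i ∈ Finset.range (m - 1), (q ^ m - q ^ (i + 1)) := by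
    refine dvd_trans ?_ (Finset.dvd_prod_of_mem (fun i => q ^ m - q ^ (i + 1))
      (Finset.mem_range.2 (show m - a - 1 < m - 1 by omega)))
    have h4 : q ^ m - q ^ (m - a - 1 + 1) = q ^ (m - a) * (q ^ a - 1) := by
      have h5 : m - a - 1 + 1 = m - a := by omega
      rw [h5, Nat.mul_sub, mul_one, ← pow_add]
      congr 2
      omega
    show p ∣ q ^ m - q ^ (m - a - 1 + 1)
    rw [h4]
    exact Dvd.dvd.mul_left hpa _
  have h4 : Nat.card ((K →ₗ[F] K)ˣ) * GW ∣ Nat.card ((K × (Fin k → F) →ₗ[F] K × (Fin k → F))ˣ) := by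
    rw [hGW, ← Nat.card_prod]
    let f : (K →ₗ[F] K)ˣ × ((Fin k → F) →ₗ[F] (Fin k → F))ˣ →* ((K × (Fin k → F) →ₗ[F] K × (Fin k → F))ˣ) :=
      (Units.map (LinearMap.prodMapRingHom F K (Fin k → F) : _ →* _)).comp
        (MulEquiv.prodUnits.symm.toMonoidHom)
    have hf : Function.Injective f := by
      rw [injective_iff_map_eq_one]
      rintro ⟨a, β⟩ h
      have h1 : ∀ v : K × (Fin k → F), ((a : K →ₗ[F] K) v.1,
          (β : (Fin k → F) →ₗ[F] (Fin k → F)) v.2) = v := by
        intro v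
        have : (f (a, β) : (K × (Fin k → F) →ₗ[F] K × (Fin k → F))) v = v := by rw [h]; rfl
        exact this
      refine Prod.ext (Units.ext (LinearMap.ext fun w => ?_)) (Units.ext (LinearMap.ext fun w => ?_))
      · have := congrArg Prod.fst (h1 (w, 0))
        simpa using this
      · have := congrArg Prod.snd (h1 (0, w))
        simpa using this
    exact Subgroup.card_dvd_of_injective f hf
  have h5 : C.index * Nat.card C = Nat.card ((K × (Fin k → F) →ₗ[F] K × (Fin k → F))ˣ) := C.index_mul_card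
  obtain ⟨t, ht⟩ := h4
  obtain ⟨c, hc⟩ := h1
  rw [← h5, h2] at ht
  set L := ∏ i ∈ Finset.range (m - 1), (q ^ m - q ^ (i + 1)) with hL
  have h6 : C.index * Nat.card C = L * c * t * Nat.card C := by
    rw [ht]
    calc (q ^ m - 1) * L * GW * t = L * ((q ^ m - 1) * GW) * t := by ring
      _ = L * c * t * Nat.card C := by rw [hc]; ring
  have : Finite ((K × (Fin k → F) →ₗ[F] K × (Fin k → F))ˣ) := by
    have : Finite (K × (Fin k → F) →ₗ[F] K × (Fin k → F)) := Module.finite_of_finite F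
    infer_instance
  have h7 : C.index = L * c * t := Nat.eq_of_mul_eq_mul_right Nat.card_pos h6
  rw [h7, mul_assoc]
  exact Dvd.dvd.mul_right h3 _

/-- Surjectivity of the determinant on the centralizer of `(ζ, δ)`. -/
theorem exists_det {K : Type*} [Field K] [Finite K] [Algebra F K] [FiniteDimensional F K] {k : ℕ}
    (ζ : Kˣ) (δ : Fin k → Fˣ) (u : Fˣ) :
    ∃ g ∈ Subgroup.centralizer {blk F K (Fin k) (ζ, dg F (Fin k) δ)},
      LinearMap.det (g : K × (Fin k → F) →ₗ[F] K × (Fin k → F)) = u := by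
  obtain ⟨c, hc⟩ := FiniteField.unitsMap_norm_surjective F K u
  refine ⟨blk F K (Fin k) (c, 1), ?_, ?_⟩
  · rw [Subgroup.mem_centralizer_singleton_iff, ← map_mul, ← map_mul]
    congr 1
    exact Prod.ext (mul_comm _ _) (by simp)
  · rw [blk_det]
    have : Algebra.norm F (c : K) = u := congrArg Units.val hc
    rw [this]
    simp

/-- An `s`-element of `SL_n(F)` with centralizer index divisible by `p`. -/
theorem exists_elt {K : Type*} [Field K] [Finite K] [Algebra F K] [FiniteDimensional F K] {m k n : ℕ}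
    (hm : finrank F K = m) (hn : m + k = n) {s : ℕ} (ζ : Kˣ) (δ : Fin k → Fˣ)
    (hζ : Algebra.adjoin F {(ζ : K)} = ⊤) (hζs : ∃ j, orderOf ζ = s ^ j) (hδs : ∀ i, orderOf (δ i) ∣ orderOf ζ)
    (hs : s.Prime)
    (hdet : Algebra.norm F (ζ : K) * ∏ i, (δ i : F) = 1)
    (hm2 : 2 ≤ m) {p a : ℕ} (hp : p.Prime) (ha : 0 < a) (ham : a < m) (hpa : p ∣ Fintype.card F ^ a - 1) :
    ∃ y : Matrix.SpecialLinearGroup (Fin n) F, (∃ j, orderOf y = s ^ j) ∧
      p ∣ (Subgroup.centralizer ({y} : Set (Matrix.SpecialLinearGroup (Fin n) F))).index := by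
  obtain ⟨y, hy1, hy2⟩ := exists_sl (n := n) (by rw [finrank_prod, hm, finrank_pi, Fintype.card_fin, hn])
    (blk F K (Fin k) (ζ, dg F (Fin k) δ)) (by rw [blk_det, dg_det, hdet]) (exists_det ζ δ)
  refine ⟨y, ?_, ?_⟩
  · obtain ⟨j, hj⟩ := hζs
    have h1 : orderOf y ∣ s ^ j := by
      rw [hy1, orderOf_dvd_iff_pow_eq_one, ← hj, ← map_pow, Prod.pow_mk, pow_orderOf_eq_one, ← map_pow]
      have : δ ^ orderOf ζ = 1 := by
        funext i
        exact orderOf_dvd_iff_pow_eq_one.1 (hδs i)
      rw [this, map_one]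
      exact map_one _
    obtain ⟨i, -, hi⟩ := (Nat.dvd_prime_pow hs).1 h1
    exact ⟨i, hi⟩
  · rw [hy2]
    exact index_dvd hm ζ δ hζ hm2 hp ha ham hpa

end Cfsg.Agent.H625.NHSl
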