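import Mathlib
import Cfsg.Agent.H625.NHSl

/-!
`SL_n(F)`: abelian subgroups of index prime to `p` when `n < p e`, and the diagonal element.
-/

set_option autoImplicit false

namespace Cfsg.Agent.H625.NHTorus

open Module NHLin NHArith NHSl

variable {F : Type*} [Field F] [Fintype F]

/-- `A^×` acting on `A × F^k`. -/
noncomputable def tor (F A : Type*) [Field F] [CommRing A] [Algebra F A] (k : ℕ) :
    Aˣ →* ((A × (Fin k → F)) →ₗ[F] (A × (Fin k → F)))ˣ :=
  (Units.map (LinearMap.prodMapRingHom F A (Fin k → F) : _ →* _)).comp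
    ((MulEquiv.prodUnits.symm.toMonoidHom).comp
      ((Units.map ((Algebra.lmul F A : A →ₐ[F] Module.End F A) : A →* Module.End F A)).prod
        (1 : Aˣ →* ((Fin k → F) →ₗ[F] (Fin k → F))ˣ)))

omit [Fintype F] in
theorem tor_apply {A : Type*} [CommRing A] [Algebra F A] {k : ℕ} (a : Aˣ) (v : A × (Fin k → F)) :
    (tor F A k a : (A × (Fin k → F)) →ₗ[F] (A × (Fin k → F))) v = ((a : A) * v.1, v.2) := rfl

omit [Fintype F] in
theorem tor_injective {A : Type*} [CommRing A] [Algebra F A] {k : ℕ} :
    Function.Injective (tor F A k) := by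
  rw [injective_iff_map_eq_one]
  intro a h
  have h1 : (tor F A k a : (A × (Fin k → F)) →ₗ[F] (A × (Fin k → F))) (1, 0) = (1, 0) := by
    rw [h]; rfl
  rw [tor_apply] at h1
  have := congrArg Prod.fst h1
  exact Units.ext (by simpa using this)

/-- The `p`-part of the order of `GL_n(q)` if `n < p e`. -/
theorem factorization_card {q n e N k p : ℕ} (hq : 1 < q) (he : 0 < e) (hn : e * N + k = n) (hk : k < e)
    (hp : p.Prime) (hpq : ¬ p ∣ q) (hord : orderOf (q : ZMod p) = e) (hN : N < p) :
    (∏ i ∈ Finset.range n, (q ^ n - q ^ i)).factorization p = N * (q ^ e - 1).factorization p := by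
  have hpos : ∀ j, 0 < j → q ^ j - 1 ≠ 0 := by
    intro j hj
    have := Nat.one_lt_pow hj.ne' hq
    omega
  have h1 : ∀ i ∈ Finset.range n, q ^ n - q ^ i ≠ 0 := by
    intro i hi
    have := Nat.pow_lt_pow_right hq (Finset.mem_range.1 hi)
    omega
  rw [Nat.factorization_prod h1, Finset.sum_apply']
  have h2 : ∀ i ∈ Finset.range n, (q ^ n - q ^ i).factorization p = (q ^ (n - 1 - i + 1) - 1).factorization p := by
    intro i hi
    rw [Finset.mem_range] at hi
    have h3 : q ^ n - q ^ i = q ^ i * (q ^ (n - 1 - i + 1) - 1) := by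
      rw [Nat.mul_sub, mul_one, ← pow_add]
      congr 2
      omega
    rw [h3, Nat.factorization_mul (pow_ne_zero _ (by omega)) (hpos _ (by omega)), Finsupp.add_apply,
      Nat.factorization_pow]
    simp [Nat.factorization_eq_zero_of_not_dvd hpq]
  rw [Finset.sum_congr rfl h2, Finset.sum_range_reflect (fun j => (q ^ (j + 1) - 1).factorization p) n]
  have h4 : ∀ j ∈ Finset.range n, (q ^ (j + 1) - 1).factorization p
      = if e ∣ j + 1 then (q ^ e - 1).factorization p else 0 := by
    intro j hj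
    rw [Finset.mem_range] at hj
    split_ifs with h
    · obtain ⟨t, ht⟩ := h
      have ht0 : 0 < t := by
        rcases Nat.eq_zero_or_pos t with rfl | h
        · omega
        · exact h
      have htN : t ≤ N := by
        by_contra hlt
        have : e * (N + 1) ≤ e * t := Nat.mul_le_mul_left e (by omega)
        rw [mul_add, mul_one] at this
        omega
      rw [ht]
      exact factorization_eq hq he hp ((dvd_pow_sub_one_iff (by omega)).2 (by rw [hord])) ht0 (by omega)
    · apply Nat.factorization_eq_zero_of_not_dvd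
      rw [dvd_pow_sub_one_iff (by omega), hord]
      exact h
  rw [Finset.sum_congr rfl h4, ← Finset.sum_filter, Finset.sum_const, Nat.card_multiples, smul_eq_mul]
  congr 1
  rw [← hn, Nat.mul_add_div he, Nat.div_eq_of_lt hk, add_zero]

theorem torus {e N k n : ℕ} (he : 0 < e) (hn : e * N + k = n) (hk : k < e) :
    ∃ T : Subgroup (Matrix.SpecialLinearGroup (Fin n) F), IsMulCommutative T ∧
      ∀ p : ℕ, p.Prime → ¬ p ∣ Fintype.card F → orderOf (Fintype.card F : ZMod p) = e → N < p →
        ¬ p ∣ T.index := by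
  classical
  obtain ⟨r, hr⟩ := CharP.exists F
  have : Fact r.Prime := ⟨CharP.char_is_prime F r⟩
  obtain ⟨K, _, _, _, _, a, hK, ha, hcK⟩ := H159.exists_field_gen F r e he.ne'
  have := Fintype.ofFinite K
  have hfr : finrank F ((Fin N → K) × (Fin k → F)) = n := by
    rw [finrank_prod, finrank_pi, Fintype.card_fin, Module.finrank_pi_fintype]
    simp [hK, ← hn, mul_comm]
  set b := finBasisOfFinrankEq F ((Fin N → K) × (Fin k → F)) hfr with hb
  set E : (((Fin N → K) × (Fin k → F)) →ₗ[F] ((Fin N → K) × (Fin k → F)))ˣ ≃* Matrix.GeneralLinearGroup (Fin n) F :=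
    Units.mapEquiv ((LinearMap.toMatrixAlgEquiv b).toMulEquiv) with hE
  set f : (Fin N → K)ˣ →* Matrix.GeneralLinearGroup (Fin n) F := (E : _ →* _).comp (tor F (Fin N → K) k) with hf
  have hfi : Function.Injective f := E.injective.comp tor_injective
  set N' : Subgroup (Matrix.GeneralLinearGroup (Fin n) F) :=
      (Matrix.SpecialLinearGroup.toGL : Matrix.SpecialLinearGroup (Fin n) F →* _).range with hN'
  have hNn : N'.Normal := by rw [hN', range_toGL]; infer_instance
  refine ⟨f.range.comap Matrix.SpecialLinearGroup.toGL, ?_, ?_⟩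
  · constructor
    constructor
    rintro ⟨x, hx⟩ ⟨y, hy⟩
    obtain ⟨u, hu⟩ := Subgroup.mem_comap.1 hx
    obtain ⟨w, hw⟩ := Subgroup.mem_comap.1 hy
    apply Subtype.ext
    apply Matrix.SpecialLinearGroup.toGL_injective
    show Matrix.SpecialLinearGroup.toGL (x * y) = Matrix.SpecialLinearGroup.toGL (y * x)
    rw [map_mul, map_mul, ← hu, ← hw, ← map_mul, ← map_mul, mul_comm]
  · intro p hp hpq hord hNp hd
    rw [Subgroup.index_comap] at hd
    have hd1 : p ∣ f.range.index := hd.trans (relIndex_dvd N' f.range)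
    have hq1 : 1 < Fintype.card F := Fintype.one_lt_card
    have hcA : Nat.card (Fin N → K)ˣ = (Fintype.card F ^ e - 1) ^ N := by
      rw [Nat.card_congr (MulEquiv.piUnits (M := fun _ : Fin N => K)).toEquiv, Nat.card_pi]
      simp only [Nat.card_units, hcK, Finset.prod_const, Finset.card_univ, Fintype.card_fin]
    have hcard : f.range.index * (Fintype.card F ^ e - 1) ^ N
        = ∏ i ∈ Finset.range n, (Fintype.card F ^ n - Fintype.card F ^ i) := by
      have h1 : Nat.card f.range = (Fintype.card F ^ e - 1) ^ N := by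
        rw [← hcA, Nat.card_congr (MonoidHom.ofInjective hfi).toEquiv]
      rw [← h1, Subgroup.index_mul_card, Matrix.card_GL_field, Finset.prod_range]
    have hfac := factorization_card hq1 he hn hk hp hpq hord hNp
    have hne : (Fintype.card F ^ e - 1) ^ N ≠ 0 := by
      apply pow_ne_zero
      have := Nat.one_lt_pow he.ne' hq1
      omega
    rw [← hcard, Nat.factorization_mul Subgroup.index_ne_zero_of_finite hne, Finsupp.add_apply,
      Nat.factorization_pow, Finsupp.smul_apply, smul_eq_mul] at hfac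
    have h2 := (hp.dvd_iff_one_le_factorization Subgroup.index_ne_zero_of_finite).1 hd1
    omega

omit [Fintype F] in
/-- The centralizer of a diagonal matrix with different entries. -/
theorem centralizer_dg {n : ℕ} (δ : Fin n → Fˣ) (hδ : Function.Injective δ) :
    Subgroup.centralizer {dg F (Fin n) δ} ≤ (dg F (Fin n)).range := by
  classical
  have key : ∀ g ∈ Subgroup.centralizer {dg F (Fin n) δ}, ∀ w : Fin n → F, ∀ i,
      (g : (Fin n → F) →ₗ[F] (Fin n → F)) w i
        = (g : (Fin n → F) →ₗ[F] (Fin n → F)) (Pi.single i 1) i * w i := by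
    intro g hg
    rw [Subgroup.mem_centralizer_singleton_iff] at hg
    have h1 : ∀ w, (g : (Fin n → F) →ₗ[F] (Fin n → F)) ((dg F (Fin n) δ : (Fin n → F) →ₗ[F] (Fin n → F)) w)
        = (dg F (Fin n) δ : (Fin n → F) →ₗ[F] (Fin n → F)) ((g : (Fin n → F) →ₗ[F] (Fin n → F)) w) := by
      intro w
      have := congrArg (fun u : ((Fin n → F) →ₗ[F] (Fin n → F))ˣ => (u : (Fin n → F) →ₗ[F] (Fin n → F)) w) hg
      simpa using this
    have h2 : ∀ j i, i ≠ j → (g : (Fin n → F) →ₗ[F] (Fin n → F)) (Pi.single j 1) i = 0 := by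
      intro j i hij
      have h3 : (dg F (Fin n) δ : (Fin n → F) →ₗ[F] (Fin n → F)) (Pi.single j 1) = (δ j : F) • Pi.single j 1 := by
        funext l
        rw [dg_apply]
        by_cases hl : l = j
        · subst hl; simp
        · simp [hl]
      have h4 := h1 (Pi.single j 1)
      rw [h3, map_smul] at h4
      have h5 := congrFun h4 i
      rw [dg_apply, Pi.smul_apply, smul_eq_mul] at h5
      have h6 : ((δ j : F) - δ i) * (g : (Fin n → F) →ₗ[F] (Fin n → F)) (Pi.single j 1) i = 0 := by
        rw [sub_mul, h5, sub_self]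
      refine (mul_eq_zero.1 h6).resolve_left (sub_ne_zero.2 fun h => hij ?_)
      exact (hδ (Units.ext h)).symm
    intro w i
    have h3 : w = ∑ j, w j • (Pi.single j 1 : Fin n → F) := by
      funext l
      simp [Finset.sum_apply, Pi.single_apply]
    conv_lhs => rw [h3]
    rw [map_sum, Finset.sum_apply, Finset.sum_eq_single i]
    · rw [map_smul, Pi.smul_apply, smul_eq_mul, mul_comm]
    · intro j _ hj
      rw [map_smul, Pi.smul_apply, h2 j i hj.symm, smul_zero]
    · intro h; exact absurd (Finset.mem_univ i) h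
  intro g hg
  have hg' := Subgroup.inv_mem _ hg
  have h1 := key g hg
  have h2 := key g⁻¹ hg'
  have h3 : ∀ w, (g : (Fin n → F) →ₗ[F] (Fin n → F)) ((g⁻¹ : ((Fin n → F) →ₗ[F] (Fin n → F))ˣ).1 w) = w := by
    intro w
    have : ((g * g⁻¹ : ((Fin n → F) →ₗ[F] (Fin n → F))ˣ) : (Fin n → F) →ₗ[F] (Fin n → F)) w = w := by
      rw [mul_inv_cancel]; rfl
    exact this
  have h4 : ∀ i, (g : (Fin n → F) →ₗ[F] (Fin n → F)) (Pi.single i 1) i
      * (g⁻¹ : ((Fin n → F) →ₗ[F] (Fin n → F))ˣ).1 (Pi.single i 1) i = 1 := by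
    intro i
    have := congrFun (h3 (Pi.single i 1)) i
    rw [h1, h2] at this
    simpa using this
  refine ⟨fun i => ⟨_, _, h4 i, by rw [mul_comm]; exact h4 i⟩, Units.ext (LinearMap.ext fun w => funext fun i => ?_)⟩
  rw [dg_apply, h1 w i]

theorem exists_diag {n s : ℕ} (hn : n.Prime) (hs : s.Prime) (hns : n < s) (h1 : s ∣ Fintype.card F - 1)
    (h2 : n ∣ Fintype.card F - 1) (hs2 : s ≠ 2) :
    ∃ y : Matrix.SpecialLinearGroup (Fin n) F, (∃ j, orderOf y = s ^ j) ∧
      n ∣ (Subgroup.centralizer ({y} : Set (Matrix.SpecialLinearGroup (Fin n) F))).index := by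
  classical
  set q := Fintype.card F with hq
  have hq1 : 1 < q := Fintype.one_lt_card
  have : Fact s.Prime := ⟨hs⟩
  obtain ⟨ω, hω⟩ : ∃ ω : Fˣ, orderOf ω = s := by
    apply exists_prime_orderOf_dvd_card
    rw [Fintype.card_units]
    exact h1
  set δ : Fin n → Fˣ := fun i => (ω ^ 2) ^ (i : ℕ) * (ω⁻¹) ^ (n - 1) with hδ
  have hω2 : orderOf (ω ^ 2) = s := by
    rw [orderOf_pow, hω]
    have : Nat.gcd s 2 = 1 := by
      rw [Nat.coprime_iff_gcd_eq_one.symm, Nat.coprime_primes hs Nat.prime_two]
      exact hs2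
    rw [this, Nat.div_one]
  have hδi : Function.Injective δ := by
    intro i j hij
    have h3 : (ω ^ 2) ^ (i : ℕ) = (ω ^ 2) ^ (j : ℕ) := mul_right_cancel hij
    have h4 := pow_injOn_Iio_orderOf (x := ω ^ 2) (by rw [hω2]; show (i : ℕ) < s; omega)
      (by rw [hω2]; show (j : ℕ) < s; omega) h3
    exact Fin.ext h4
  have hdet : ∏ i, (δ i : F) = 1 := by
    have h3 : ∏ i, δ i = 1 := by
      simp only [hδ]
      rw [Finset.prod_mul_distrib, Finset.prod_const, Finset.card_univ, Fintype.card_fin,
        Finset.prod_pow_eq_pow_sum, ← pow_mul, ← pow_mul]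
      have h4 : 2 * ∑ i : Fin n, (i : ℕ) = (n - 1) * n := by
        rw [Fin.sum_univ_eq_sum_range (fun i => i) n, mul_comm 2, Finset.sum_range_id_mul_two, mul_comm]
      rw [h4, inv_pow, mul_inv_cancel]
    have := congrArg Units.val h3
    simpa using this
  obtain ⟨y, hy1, hy2⟩ := exists_sl (n := n) (F := F) (V := Fin n → F) (by simp)
    (dg F (Fin n) δ) (by rw [dg_det, hdet]) (by
      intro u
      refine ⟨dg F (Fin n) (fun i => if i = ⟨0, hn.pos⟩ then u else 1), ?_, ?_⟩
      · rw [Subgroup.mem_centralizer_singleton_iff, ← map_mul, ← map_mul, mul_comm]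
      · rw [dg_det]
        rw [Finset.prod_eq_single (⟨0, hn.pos⟩ : Fin n)]
        · simp
        · intro j _ hj
          simp [hj]
        · intro h; exact absurd (Finset.mem_univ _) h)
  refine ⟨y, ?_, ?_⟩
  · have h3 : orderOf y ∣ s ^ 1 := by
      rw [hy1, orderOf_dvd_iff_pow_eq_one, ← map_pow]
      have : δ ^ s ^ 1 = 1 := by
        funext i
        show ((ω ^ 2) ^ (i : ℕ) * (ω⁻¹) ^ (n - 1)) ^ s ^ 1 = 1
        have h5 : ω ^ s = 1 := by rw [← hω, pow_orderOf_eq_one]
        rw [pow_one, mul_pow, pow_right_comm, pow_right_comm ω 2 s, h5, pow_right_comm (ω⁻¹) _ s, inv_pow, h5]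
        simp
      rw [this, map_one]
    obtain ⟨i, -, hi⟩ := (Nat.dvd_prime_pow hs).1 h3
    exact ⟨i, hi⟩
  · rw [hy2]
    set C := Subgroup.centralizer ({dg F (Fin n) δ} : Set _) with hC
    have h3 : Nat.card C ∣ (q - 1) ^ n := by
      have h4 : Nat.card (Fin n → Fˣ) = (q - 1) ^ n := by
        rw [Nat.card_pi]
        simp only [Nat.card_units, Finset.prod_const, Finset.card_univ, Fintype.card_fin]
        rw [Nat.card_eq_fintype_card]
      rw [← h4]
      exact (Subgroup.card_dvd_of_le (centralizer_dg δ hδi)).trans (Subgroup.card_range_dvd _)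
    have h5 : (q - 1) ^ n * n ∣ ∏ i ∈ Finset.range n, (q ^ n - q ^ i) := by
      have h6 : ∀ j, 0 < j → (q - 1) ∣ q ^ j - 1 := fun j _ => Nat.sub_one_dvd_pow_sub_one _ _
      obtain ⟨n', rfl⟩ : ∃ n', n = n' + 1 := ⟨n - 1, by have := hn.pos; omega⟩
      rw [Finset.prod_range_succ', pow_succ, mul_assoc]
      apply mul_dvd_mul
      · have : (q - 1) ^ n' = ∏ i ∈ Finset.range n', (q - 1) := by simp
        rw [this]
        apply Finset.prod_dvd_prod_of_dvd
        intro i hi
        rw [Finset.mem_range] at hi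
        have h7 : q ^ (n' + 1) - q ^ (i + 1) = q ^ (i + 1) * (q ^ (n' - i) - 1) := by
          rw [Nat.mul_sub, mul_one, ← pow_add]
          congr 2
          omega
        rw [h7]
        exact Dvd.dvd.mul_left (h6 _ (by omega)) _
      · rw [pow_zero]
        have hgs : q ^ (n' + 1) - 1 = (q - 1) * ∑ i ∈ Finset.range (n' + 1), q ^ i := by
          have := Nat.geomSum_eq (m := q) (by omega) (n' + 1)
          rw [this, Nat.mul_div_cancel']
          exact Nat.sub_one_dvd_pow_sub_one _ _
        rw [hgs]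
        apply mul_dvd_mul_left
        rw [← (ZMod.natCast_eq_zero_iff _ (n' + 1))]
        have h8 : (q : ZMod (n' + 1)) = 1 := by
          have h4 : ((q - 1 : ℕ) : ZMod (n' + 1)) = 0 := (ZMod.natCast_eq_zero_iff _ _).2 h2
          rw [Nat.cast_sub hq1.le, Nat.cast_one, sub_eq_zero] at h4
          exact h4
        rw [Nat.cast_sum]
        simp only [Nat.cast_pow, h8, one_pow, Finset.sum_const, Finset.card_range, nsmul_eq_mul, mul_one]
        exact (ZMod.natCast_self _)
    obtain ⟨c, hc⟩ := h3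
    obtain ⟨t, ht⟩ := h5
    have h6 : C.index * Nat.card C = n * (c * t) * Nat.card C := by
      rw [C.index_mul_card, card_units_end (Fin n → F) (by simp : finrank F (Fin n → F) = n), ← hq, ht, hc]
      ring
    have : Finite (((Fin n → F) →ₗ[F] (Fin n → F))ˣ) := by
      have : Finite ((Fin n → F) →ₗ[F] (Fin n → F)) := Module.finite_of_finite F
      infer_instance
    have h7 : C.index = n * (c * t) := Nat.eq_of_mul_eq_mul_right Nat.card_pos h6
    rw [h7]
    exact dvd_mul_right _ _

end Cfsg.Agent.H625.NHTorus
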