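import Mathlib
import Cfsg.Agent.H625.NHTorus

/-!
Row of `PSL_n(F)` in cross characteristic for the nilpotent Hall cluster (S4597, S4599, S4600).
-/

set_option autoImplicit false

namespace Cfsg.Agent.H625.NHPsl

open Module NHLin NHArith NHSl NHTorus

variable {F : Type*} [Field F] [Fintype F]

/-- The condition on `p`-elements. -/
def CondP (π : Set ℕ) (G : Type*) [Group G] : Prop :=
  ∀ p ∈ π, ∀ q ∈ π, p ≠ q → ∀ x : G, (∃ k : ℕ, orderOf x = p ^ k) →
    ¬ q ∣ (Subgroup.centralizer ({x} : Set G)).index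

theorem CondP.of_quot {G : Type*} [Group G] [Finite G] (Z : Subgroup G) [Z.Normal]
    (hZ : Z ≤ Subgroup.center G) {π : Set ℕ} (hπ : ∀ p ∈ π, p.Prime) (h : CondP π (G ⧸ Z)) : CondP π G := by
  intro p hp q hq hpq x hx hd
  refine h p hp q hq hpq (QuotientGroup.mk x : G ⧸ Z) ?_
    (dvd_index_quot Z hZ (hπ p hp) (hπ q hq) hpq x hx hd)
  obtain ⟨k, hk⟩ := hx
  have h1 : orderOf (QuotientGroup.mk x : G ⧸ Z) ∣ p ^ k := by
    rw [← hk]
    exact orderOf_map_dvd (QuotientGroup.mk' Z) x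
  obtain ⟨i, -, hi⟩ := (Nat.dvd_prime_pow (hπ p hp)).1 h1
  exact ⟨i, hi⟩

/-- Norms of `s`-elements are trivial if `s` does not divide `q - 1`. -/
theorem norm_eq_one {K : Type*} [Field K] [Finite K] [Algebra F K] {s : ℕ} (hs : s.Prime)
    (hs1 : ¬ s ∣ Fintype.card F - 1) (ζ : Kˣ) (hζ : ∃ k, orderOf ζ = s ^ k) :
    Algebra.norm F (ζ : K) = 1 := by
  classical
  obtain ⟨k, hk⟩ := hζ
  set u : Fˣ := Units.map (Algebra.norm F : K →* F) ζ with hu
  have h1 : orderOf u ∣ s ^ k := by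
    rw [← hk]
    exact orderOf_map_dvd _ ζ
  have h2 : orderOf u ∣ Fintype.card F - 1 := by
    rw [← Fintype.card_units]
    exact orderOf_dvd_card
  have h3 : Nat.Coprime (s ^ k) (Fintype.card F - 1) := Nat.Coprime.pow_left k ((Nat.Prime.coprime_iff_not_dvd hs).2 hs1)
  have h4 : orderOf u = 1 := Nat.eq_one_of_dvd_coprimes h3 h1 h2
  rw [orderOf_eq_one_iff] at h4
  exact congrArg Units.val h4

theorem sl_row {n : ℕ} (hn : 2 ≤ n) {π : Set ℕ}
    (hπ : ∀ p ∈ π, p.Prime ∧ p ≠ 2 ∧ ¬ p ∣ Fintype.card F ∧ p ∣ Nat.card (Matrix.SpecialLinearGroup (Fin n) F))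
    (hnt : π.Nontrivial) (hc : CondP π (Matrix.SpecialLinearGroup (Fin n) F)) :
    ∃ T : Subgroup (Matrix.SpecialLinearGroup (Fin n) F), IsMulCommutative T ∧ ∀ p ∈ π, ¬ p ∣ T.index := by
  set q := Fintype.card F with hq
  have hq1 : 1 < q := Fintype.one_lt_card
  -- the order of `q` modulo `p`
  have hord : ∀ p ∈ π, 0 < orderOf (q : ZMod p) := by
    intro p hp
    obtain ⟨hp1, hp2, hp3, hp4⟩ := hπ p hp
    have : Fact p.Prime := ⟨hp1⟩
    have h1 : (q : ZMod p) ≠ 0 := by
      rw [Ne, ZMod.natCast_eq_zero_iff]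
      exact hp3
    exact (isOfFinOrder_iff_isUnit.2 (isUnit_iff_ne_zero.2 h1)).orderOf_pos
  have hdv : ∀ p ∈ π, p ∣ q ^ (orderOf (q : ZMod p)) - 1 := fun p _ =>
    (dvd_pow_sub_one_iff (by omega)).2 dvd_rfl
  have hle : ∀ p ∈ π, orderOf (q : ZMod p) ≤ n := by
    intro p hp
    obtain ⟨hp1, hp2, hp3, hp4⟩ := hπ p hp
    have h1 : p ∣ ∏ i ∈ Finset.range n, (q ^ n - q ^ i) := by
      have h2 : Nat.card (Matrix.SpecialLinearGroup (Fin n) F) ∣ Nat.card (Matrix.GeneralLinearGroup (Fin n) F) :=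
        Subgroup.card_dvd_of_injective _ Matrix.SpecialLinearGroup.toGL_injective
      rw [Matrix.card_GL_field, ← Finset.prod_range (fun i => Fintype.card F ^ n - Fintype.card F ^ i)] at h2
      exact hp4.trans h2
    obtain ⟨i, hi, hpi⟩ := (hp1.prime.dvd_finsetProd_iff _).1 h1
    rw [Finset.mem_range] at hi
    have h3 : q ^ n - q ^ i = q ^ i * (q ^ (n - i) - 1) := by
      rw [Nat.mul_sub, mul_one, ← pow_add]
      congr 2
      omega
    rw [h3] at hpi
    have h4 : p ∣ q ^ (n - i) - 1 := by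
      rcases (Nat.Prime.dvd_mul hp1).1 hpi with h | h
      · exact absurd (hp1.dvd_of_dvd_pow h) hp3
      · exact h
    rw [dvd_pow_sub_one_iff (by omega)] at h4
    have := Nat.le_of_dvd (by omega) h4
    omega
  -- claim 1: all orders are equal
  have claim1 : ∀ p ∈ π, ∀ s ∈ π, ¬ orderOf (q : ZMod p) < orderOf (q : ZMod s) := by
    intro p hp s hs hlt
    have hps : s ≠ p := by rintro rfl; exact lt_irrefl _ hlt
    obtain ⟨hp1, hp2, hp3, hp4⟩ := hπ p hp
    obtain ⟨hs1, hs2, hs3, hs4⟩ := hπ s hs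
    obtain ⟨K, _, _, _, _, ζ, hK, hζo, hζ⟩ := exists_gen_one F (hord s hs) hs1 rfl
    have h1 := hord p hp
    have h2 := hord s hs
    have h3 := hle s hs
    have hs1' : ¬ s ∣ Fintype.card F - 1 := by
      intro h
      have h5 : s ∣ q ^ 1 - 1 := by rw [pow_one]; exact h
      rw [dvd_pow_sub_one_iff (by omega)] at h5
      have := Nat.le_of_dvd one_pos h5
      omega
    obtain ⟨y, hy1, hy2⟩ := exists_elt (n := n) (k := n - orderOf (q : ZMod s)) hK (by omega) (s := s) ζ
      (fun _ => 1) hζ hζo (fun i => by rw [orderOf_one]; exact one_dvd _) hs1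
      (by rw [norm_eq_one hs1 hs1' ζ hζo]; simp) (by omega) hp1 h1 hlt (hdv p hp)
    exact hc s hs p hp hps y hy1 hy2
  obtain ⟨p₀, hp₀, s₀, hs₀, hps₀⟩ := hnt
  set e := orderOf (q : ZMod p₀) with he
  have hee : ∀ p ∈ π, orderOf (q : ZMod p) = e := by
    intro p hp
    have h1 := claim1 p hp p₀ hp₀
    have h2 := claim1 p₀ hp₀ p hp
    omega
  have he0 : 0 < e := hord p₀ hp₀
  have hen : e ≤ n := hle p₀ hp₀
  -- claim 2
  have claim2 : ∀ s ∈ π, ∀ p ∈ π, s ≠ p → e * s < n + 1 → (e ≠ 1 ∨ e * s < n) → False := by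
    intro s hs p hp hps hesn hor
    obtain ⟨hp1, hp2, hp3, hp4⟩ := hπ p hp
    obtain ⟨hs1, hs2, hs3, hs4⟩ := hπ s hs
    obtain ⟨K, _, _, _, _, ζ, hK, hζo, hζ⟩ := exists_gen_two F he0 hs1 (hee s hs)
    have hs2' := hs1.two_le
    have hes : e < e * s := by nlinarith
    have hm2 : 2 ≤ e * s := by nlinarith
    have hpa : p ∣ Fintype.card F ^ e - 1 := by
      have := hdv p hp
      rwa [hee p hp] at this
    by_cases he1 : e = 1
    · -- use a correction
      have hlt : e * s < n := hor.resolve_left (not_not.2 he1)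
      set u : Fˣ := Units.map (Algebra.norm F : K →* F) ζ with hu
      obtain ⟨y, hy1, hy2⟩ := exists_elt (n := n) (k := n - e * s) hK (by omega) (s := s) ζ
        (fun i => if i = ⟨0, by omega⟩ then u⁻¹ else 1) hζ hζo (by
          intro i
          split_ifs
          · rw [orderOf_inv]
            exact orderOf_map_dvd _ ζ
          · rw [orderOf_one]; exact one_dvd _) hs1
        (by
          rw [Finset.prod_eq_single (⟨0, by omega⟩ : Fin (n - e * s))]
          · have : Algebra.norm F (ζ : K) = u := rfl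
            rw [this]
            simp
          · intro j _ hj
            simp [hj]
          · intro h; exact absurd (Finset.mem_univ _) h) hm2 hp1 he0 hes hpa
      exact hc s hs p hp hps y hy1 hy2
    · have hs1' : ¬ s ∣ Fintype.card F - 1 := by
        intro h
        have h5 : s ∣ q ^ 1 - 1 := by rw [pow_one]; exact h
        rw [dvd_pow_sub_one_iff (by omega), hee s hs] at h5
        have := Nat.le_of_dvd one_pos h5
        omega
      obtain ⟨y, hy1, hy2⟩ := exists_elt (n := n) (k := n - e * s) hK (by omega) (s := s) ζ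
        (fun _ => 1) hζ hζo (fun i => by rw [orderOf_one]; exact one_dvd _) hs1
        (by rw [norm_eq_one hs1 hs1' ζ hζo]; simp) hm2 hp1 he0 hes hpa
      exact hc s hs p hp hps y hy1 hy2
  have claim3 : ∀ s ∈ π, ∀ p ∈ π, s ≠ p → n < e * s := by
    intro s hs p hp hps
    by_contra hlt
    obtain ⟨hp1, hp2, hp3, hp4⟩ := hπ p hp
    obtain ⟨hs1, hs2, hs3, hs4⟩ := hπ s hs
    by_cases he1 : e = 1
    · by_cases hlt2 : e * s < n
      · exact claim2 s hs p hp hps (by omega) (Or.inr hlt2)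
      · have hsn : s = n := by rw [he1] at hlt hlt2; omega
        -- `n = s`
        rcases lt_or_gt_of_ne hps with h | h
        · have h1 : p ∣ Fintype.card F - 1 := by
            have := hdv p hp
            rw [hee p hp, he1, pow_one] at this
            exact this
          have h2 : n ∣ Fintype.card F - 1 := by
            have := hdv s hs
            rw [hee s hs, he1, pow_one, hsn] at this
            exact this
          obtain ⟨y, hy1, hy2⟩ := exists_diag (F := F) (n := n) (s := p) (hsn ▸ hs1) hp1 (hsn ▸ h) h1 h2 hp2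
          exact hc p hp s hs hps.symm y hy1 (hsn ▸ hy2)
        · refine claim2 p hp s hs hps.symm ?_ (Or.inr ?_)
          · rw [he1]; omega
          · rw [he1]; omega
    · exact claim2 s hs p hp hps (by omega) (Or.inl he1)
  have claim4 : ∀ p ∈ π, n / e < p := by
    intro p hp
    rw [Nat.div_lt_iff_lt_mul he0, mul_comm]
    by_cases h : p = p₀
    · exact claim3 p hp s₀ hs₀ (h ▸ hps₀)
    · exact claim3 p hp p₀ hp₀ h
  obtain ⟨T, hT1, hT2⟩ := torus (F := F) (e := e) (N := n / e) (k := n % e) (n := n) he0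
    (Nat.div_add_mod n e) (Nat.mod_lt _ he0)
  exact ⟨T, hT1, fun p hp => hT2 p (hπ p hp).1 (hπ p hp).2.2.1 (hee p hp) (claim4 p hp)⟩

/-- The row of `PSL_n(F)` for primes different from the characteristic. -/
theorem psl_row {n : ℕ} (hn : 2 ≤ n) {π : Set ℕ}
    (hπ : ∀ p ∈ π, p.Prime ∧ p ≠ 2 ∧ ¬ p ∣ Fintype.card F ∧
      p ∣ Nat.card (Matrix.ProjectiveSpecialLinearGroup (Fin n) F))
    (hnt : π.Nontrivial) (hc : CondP π (Matrix.ProjectiveSpecialLinearGroup (Fin n) F)) :
    ∃ T : Subgroup (Matrix.ProjectiveSpecialLinearGroup (Fin n) F), IsMulCommutative T ∧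
      ∀ p ∈ π, ¬ p ∣ T.index := by
  have hc' : CondP π (Matrix.SpecialLinearGroup (Fin n) F) :=
    CondP.of_quot (Subgroup.center _) le_rfl (fun p hp => (hπ p hp).1) hc
  obtain ⟨T, hT1, hT2⟩ := sl_row hn (fun p hp => ⟨(hπ p hp).1, (hπ p hp).2.1, (hπ p hp).2.2.1,
    (hπ p hp).2.2.2.trans (Subgroup.card_quotient_dvd_card _)⟩) hnt hc'
  let f : Matrix.SpecialLinearGroup (Fin n) F →* Matrix.ProjectiveSpecialLinearGroup (Fin n) F :=
    QuotientGroup.mk' (Subgroup.center _)
  have hf : Function.Surjective f := QuotientGroup.mk'_surjective _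
  refine ⟨T.map f, ?_, fun p hp hd => hT2 p hp ?_⟩
  · constructor
    constructor
    rintro ⟨_, a, ha, rfl⟩ ⟨_, b, hb, rfl⟩
    have := hT1.is_comm.comm ⟨a, ha⟩ ⟨b, hb⟩
    apply Subtype.ext
    have h2 : a * b = b * a := congrArg Subtype.val this
    show f a * f b = f b * f a
    rw [← map_mul, ← map_mul, h2]
  · exact hd.trans (Subgroup.index_map_dvd T hf)

end Cfsg.Agent.H625.NHPsl
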