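import Mathlib
import Cfsg.Agent.H625.NHPsl
import Cfsg.Agent.H630.Cross

/-!
Row of `SL_n(F)` in cross characteristic (task 321).
-/

set_option autoImplicit false

namespace Cfsg.Agent.H625.NHPsl

theorem crossRow_SL (r : ℕ) [Fact r.Prime] (F : Type) [Field F] [Fintype F] [CharP F r] (n : ℕ)
    (hn : 2 ≤ n) : Cfsg.Agent.H630.NH.CrossRow r (Matrix.SpecialLinearGroup (Fin n) F) := by
  intro π hπ hnt hc
  refine sl_row hn (fun p hp => ?_) hnt hc
  obtain ⟨h1, h2, h3, h4⟩ := hπ p hp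
  refine ⟨h1, h2, ?_, h4⟩
  intro hd
  obtain ⟨k, hr, hk⟩ := FiniteField.card F r
  rw [hk] at hd
  exact h3 ((Nat.prime_dvd_prime_iff_eq h1 hr).1 (h1.dvd_of_dvd_pow hd))

end Cfsg.Agent.H625.NHPsl
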