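import Cfsg.Agent.H437.Code
import Cfsg.Agent.H437.Cases

/-!
# No simple group has order `p²(p² - 1)y`, `p² + 1 = 2y²` (helper625)

Number facts on the order codes of `H437.Code`:
* `IsOrd.le_cube` : the order of a simple group of Lie type in characteristic `r` is at most the cube of `q ^ expo`;
* `IsOrd.pow_dvd` : `q ^ expo` divides the order;
* `lie_false`, `alt_false`, `spor_false` : the number `p²(p² - 1)y` with `p` prime, `p² + 1 = 2y²` is not the order of
  a simple group of Lie type, an alternating group, the Tits group or a sporadic group.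
-/

set_option autoImplicit false

namespace Cfsg.Agent.H625.OrdSq

open Finset Cfsg.Agent.H437

theorem prod_le_pow {q : ℕ} {g h : ℕ → ℕ} {n : ℕ} (H : ∀ i ∈ range n, g i ≤ q ^ h i) :
    ∏ i ∈ range n, g i ≤ q ^ (∑ i ∈ range n, h i) := by
  rw [← Finset.prod_pow_eq_pow_sum]
  exact Finset.prod_le_prod' H

theorem add_one_le {q a b : ℕ} (hq : 2 ≤ q) (h : a < b) : q ^ a + 1 ≤ q ^ b := by
  calc q ^ a + 1 ≤ q ^ a * 2 := by
        have : 1 ≤ q ^ a := Nat.one_le_pow _ _ (by omega)
        omega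
    _ ≤ q ^ a * q := Nat.mul_le_mul_left _ hq
    _ = q ^ (a + 1) := (pow_succ q a).symm
    _ ≤ q ^ b := Nat.pow_le_pow_right (by omega) h

theorem sum_two_mul (n : ℕ) : ∑ i ∈ range n, 2 * (i + 1) = n * (n + 1) := by
  induction n with
  | zero => rfl
  | succ n ih => rw [Finset.sum_range_succ, ih]; ring

theorem two_mul_tri (n : ℕ) : 2 * (n * (n - 1) / 2) = n * (n - 1) :=
  Nat.mul_div_cancel' (Nat.even_mul_pred_self n).two_dvd

theorem cof_le {T : LT} {p f : ℕ} (hq : 2 ≤ p ^ f) (hv : T.Valid p f) :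
    T.cof (p ^ f) ≤ (p ^ f) ^ (2 * T.expo) := by
  have hq1 : 1 ≤ p ^ f := by omega
  have hmono : ∀ {a b : ℕ}, a ≤ b → (p ^ f) ^ a ≤ (p ^ f) ^ b := fun h => Nat.pow_le_pow_right hq1 h
  have hs : ∀ a : ℕ, (p ^ f) ^ a - 1 ≤ (p ^ f) ^ a := fun a => Nat.sub_le _ _
  have hs' : p ^ f - 1 ≤ (p ^ f) ^ 1 := by rw [pow_one]; exact Nat.sub_le _ _
  have hm : ∀ {x y a b : ℕ}, x ≤ (p ^ f) ^ a → y ≤ (p ^ f) ^ b → x * y ≤ (p ^ f) ^ (a + b) := by
    intro x y a b h1 h2
    rw [pow_add]
    exact Nat.mul_le_mul h1 h2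
  cases T with
  | A n =>
    obtain ⟨m, rfl⟩ := Nat.exists_eq_add_of_le' hv.1
    simp only [LT.cof, LT.expo]
    rw [two_mul_tri]
    refine (prod_le_pow (h := fun i => 2 * (i + 1)) fun i _ => (hs _).trans (hmono (by omega))).trans ?_
    rw [sum_two_mul]
    apply hmono
    have : m + 2 - 1 = m + 1 := by omega
    rw [this]
    nlinarith
  | U n =>
    obtain ⟨m, rfl⟩ := Nat.exists_eq_add_of_le' hv.1
    simp only [LT.cof, LT.expo]
    rw [two_mul_tri]
    refine (prod_le_pow (q := p ^ f) (h := fun i => 2 * (i + 1)) fun i _ => ?_).trans ?_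
    · split_ifs with h
      · exact (hs _).trans (hmono (by omega))
      · have : 1 ≤ i := Nat.one_le_iff_ne_zero.2 (by rintro rfl; exact h (by decide))
        exact add_one_le hq (by omega)
    rw [sum_two_mul]
    apply hmono
    have : m + 3 - 1 = m + 2 := by omega
    rw [this]
    nlinarith
  | C m =>
    simp only [LT.cof, LT.expo]
    refine (prod_le_pow (h := fun i => 2 * (i + 1)) fun i _ => hs _).trans ?_
    rw [sum_two_mul]
    apply hmono
    have := hv.1
    nlinarith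
  | P m =>
    simp only [LT.cof, LT.expo]
    have hv' : 4 ≤ m := hv
    obtain ⟨k, rfl⟩ := Nat.exists_eq_add_of_le' hv'
    refine (hm (hs _) (prod_le_pow (h := fun i => 2 * (i + 1)) fun i _ => hs _)).trans ?_
    rw [sum_two_mul]
    apply hmono
    have : k + 4 - 1 = k + 3 := by omega
    rw [this]
    nlinarith
  | M m =>
    simp only [LT.cof, LT.expo]
    have hv' : 4 ≤ m := hv
    obtain ⟨k, rfl⟩ := Nat.exists_eq_add_of_le' hv'
    refine (hm (add_one_le hq (Nat.lt_succ_self _)) (prod_le_pow (h := fun i => 2 * (i + 1)) fun i _ => hs _)).trans ?_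
    rw [sum_two_mul]
    apply hmono
    have : k + 4 - 1 = k + 3 := by omega
    rw [this]
    nlinarith
  | G2 => exact (hm (hs _) (hs _)).trans (hmono (by decide))
  | F4 => exact (hm (hm (hm (hs _) (hs _)) (hs _)) (hs _)).trans (hmono (by decide))
  | E6 => exact (hm (hm (hm (hm (hm (hs _) (hs _)) (hs _)) (hs _)) (hs _)) (hs _)).trans (hmono (by decide))
  | E7 => exact (hm (hm (hm (hm (hm (hm (hs _) (hs _)) (hs _)) (hs _)) (hs _)) (hs _)) (hs _)).trans (hmono (by decide))
  | E8 =>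
    exact (hm (hm (hm (hm (hm (hm (hm (hs _) (hs _)) (hs _)) (hs _)) (hs _)) (hs _)) (hs _)) (hs _)).trans
      (hmono (by decide))
  | TE6 =>
    exact (hm (hm (hm (hm (hm (hs _) (add_one_le hq (Nat.lt_succ_self _))) (hs _)) (hs _))
      (add_one_le hq (Nat.lt_succ_self _))) (hs _)).trans (hmono (by decide))
  | TD4 =>
    have h1 : (p ^ f) ^ 8 + (p ^ f) ^ 4 + 1 ≤ (p ^ f) ^ 10 := by
      have h2 : (p ^ f) ^ 4 + 1 ≤ (p ^ f) ^ 8 := add_one_le hq (by norm_num)
      have h3 : (p ^ f) ^ 10 = (p ^ f) ^ 8 * (p ^ f) ^ 2 := by rw [← pow_add]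
      have h4 : 4 ≤ (p ^ f) ^ 2 := by nlinarith
      rw [h3]
      nlinarith [Nat.mul_le_mul_left ((p ^ f) ^ 8) h4]
    exact (hm (hm (hs _) (hs _)) h1).trans (hmono (by decide))
  | Sz => exact (hm hs' (add_one_le hq (Nat.lt_succ_self _))).trans (hmono (by decide))
  | Ree => exact (hm hs' (add_one_le hq (Nat.lt_succ_self _))).trans (hmono (by decide))
  | TF4 =>
    exact (hm (hm (hm hs' (add_one_le hq (Nat.lt_succ_self _))) (hs _))
      (add_one_le hq (Nat.lt_succ_self _))).trans (hmono (by decide))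

theorem coprime_sub {q a : ℕ} (hq : 1 ≤ q) (ha : a ≠ 0) : Nat.Coprime q (q ^ a - 1) := by
  have h1 : Nat.Coprime (q ^ a) (q ^ a - 1) := by
    obtain ⟨k, hk⟩ : ∃ k, q ^ a = k + 1 := Nat.exists_eq_add_of_le' (Nat.one_le_pow _ _ hq)
    rw [hk, Nat.add_sub_cancel]
    simp
  exact Nat.Coprime.coprime_dvd_left (dvd_pow_self q ha) h1

theorem coprime_add {q a : ℕ} (ha : a ≠ 0) : Nat.Coprime q (q ^ a + 1) := by
  have h1 : Nat.Coprime (q ^ a) (q ^ a + 1) := by simp
  exact Nat.Coprime.coprime_dvd_left (dvd_pow_self q ha) h1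

theorem coprime_dd {T : LT} {p f : ℕ} (hq : 2 ≤ p ^ f) (hv : T.Valid p f) :
    Nat.Coprime (p ^ f) (T.dd (p ^ f)) := by
  have h1 : Nat.Coprime (p ^ f) (p ^ f - 1) := by
    have := coprime_sub (q := p ^ f) (a := 1) (by omega) one_ne_zero
    rwa [pow_one] at this
  have h2 : Nat.Coprime (p ^ f) (p ^ f + 1) := by simp
  cases T with
  | A n => exact Nat.Coprime.coprime_dvd_right (Nat.gcd_dvd_right _ _) h1
  | U n => exact Nat.Coprime.coprime_dvd_right (Nat.gcd_dvd_right _ _) h2
  | C m => exact Nat.Coprime.coprime_dvd_right (Nat.gcd_dvd_right _ _) h1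
  | P m =>
    have hv' : 4 ≤ m := hv
    exact Nat.Coprime.coprime_dvd_right (Nat.gcd_dvd_right _ _) (coprime_sub (by omega) (by omega))
  | M m =>
    have hv' : 4 ≤ m := hv
    exact Nat.Coprime.coprime_dvd_right (Nat.gcd_dvd_right _ _) (coprime_add (by omega))
  | E6 => exact Nat.Coprime.coprime_dvd_right (Nat.gcd_dvd_right _ _) h1
  | E7 => exact Nat.Coprime.coprime_dvd_right (Nat.gcd_dvd_right _ _) h1
  | TE6 => exact Nat.Coprime.coprime_dvd_right (Nat.gcd_dvd_right _ _) h2
  | G2 => exact Nat.coprime_one_right _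
  | F4 => exact Nat.coprime_one_right _
  | E8 => exact Nat.coprime_one_right _
  | TD4 => exact Nat.coprime_one_right _
  | Sz => exact Nat.coprime_one_right _
  | Ree => exact Nat.coprime_one_right _
  | TF4 => exact Nat.coprime_one_right _

theorem dd_pos {T : LT} {p f : ℕ} (hq : 2 ≤ p ^ f) (hv : T.Valid p f) : 0 < T.dd (p ^ f) := by
  rcases Nat.eq_zero_or_pos (T.dd (p ^ f)) with h | h
  · have := coprime_dd hq hv
    rw [h, Nat.coprime_zero_right] at this
    omega
  · exact h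

/-- The order of a simple group of Lie type is at most the cube of the order of its Sylow subgroup in its own
characteristic. -/
theorem le_cube {T : LT} {p f N : ℕ} (h : IsOrd T p f N) : N ≤ ((p ^ f) ^ T.expo) ^ 3 := by
  have hq := h.two_le
  have h1 := cof_le hq h.valid
  calc N ≤ T.dd (p ^ f) * N := Nat.le_mul_of_pos_left _ (dd_pos hq h.valid)
    _ = (p ^ f) ^ T.expo * T.cof (p ^ f) := h.eq
    _ ≤ (p ^ f) ^ T.expo * (p ^ f) ^ (2 * T.expo) := Nat.mul_le_mul_left _ h1
    _ = ((p ^ f) ^ T.expo) ^ 3 := by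
        rw [← pow_add, ← pow_mul (p ^ f)]
        congr 1
        ring

/-- `q ^ expo` divides the order. -/
theorem pow_dvd {T : LT} {p f N : ℕ} (h : IsOrd T p f N) : (p ^ f) ^ T.expo ∣ N := by
  have hq := h.two_le
  have h1 : (p ^ f) ^ T.expo ∣ T.dd (p ^ f) * N := by rw [h.eq]; exact dvd_mul_right _ _
  exact Nat.Coprime.dvd_of_dvd_mul_left ((coprime_dd hq h.valid).pow_left _) h1

/-- the numbers `N = p²(p² - 1)y`, `p` prime, `p² + 1 = 2y²` -/
structure Nsw (p y N : ℕ) : Prop where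
  prime : p.Prime
  eq : p ^ 2 + 1 = 2 * y ^ 2
  card : N = p ^ 2 * ((p ^ 2 - 1) * y)

section Nsw

variable {p y N : ℕ}

theorem Nsw.p_ge (h : Nsw p y N) : 7 ≤ p := by
  by_contra hlt
  have h1 := h.eq
  have h2 := h.prime
  have hp : p < 7 := by omega
  have hy : y ≤ 4 := by nlinarith
  interval_cases p <;> interval_cases y <;> first | omega | exact absurd h2 (by norm_num)

theorem Nsw.y_ge (h : Nsw p y N) : 5 ≤ y := by
  have h1 := h.eq
  have h2 := h.p_ge
  by_contra hlt
  have : y ≤ 4 := by omega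
  nlinarith

theorem Nsw.y_lt (h : Nsw p y N) : y < p := by
  have h1 := h.eq
  have h2 := h.p_ge
  by_contra hlt
  have : p ≤ y := by omega
  nlinarith

theorem Nsw.odd_p (h : Nsw p y N) : p % 2 = 1 := by
  rcases h.prime.eq_two_or_odd with h1 | h1
  · have := h.p_ge; omega
  · exact h1

theorem Nsw.odd_y (h : Nsw p y N) : y % 2 = 1 := by
  by_contra hy
  obtain ⟨k, rfl⟩ : ∃ k, y = 2 * k := ⟨y / 2, by omega⟩
  obtain ⟨m, hm⟩ : ∃ m, p = 2 * m + 1 := ⟨p / 2, by have := h.odd_p; omega⟩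
  have h1 := h.eq
  rw [hm] at h1
  have h2 : 2 * (m ^ 2 + m) + 1 = 2 * (2 * k ^ 2) - 2 * (m ^ 2 + m) := by
    have h3 : (2 * m + 1) ^ 2 + 1 = 4 * (m ^ 2 + m) + 2 := by ring
    have h4 : 2 * (2 * k) ^ 2 = 2 * (4 * k ^ 2) := by ring
    omega
  omega

theorem Nsw.factor (h : Nsw p y N) : p ^ 2 - 1 = (p - 1) * (p + 1) := by
  obtain ⟨k, rfl⟩ : ∃ k, p = k + 1 := Nat.exists_eq_add_of_le' h.prime.one_lt.le
  have : (k + 1) ^ 2 = k * (k + 1 + 1) + 1 := by ring
  rw [this]
  simp

theorem Nsw.pos (h : Nsw p y N) : 0 < N := by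
  rw [h.card]
  have h1 := h.p_ge
  have h2 := h.y_ge
  have h3 : 0 < p ^ 2 - 1 := by
    have : 49 ≤ p ^ 2 := by nlinarith
    omega
  positivity

theorem Nsw.lt (h : Nsw p y N) : N < p ^ 5 := by
  rw [h.card]
  have h1 := h.p_ge
  have h3 : 49 ≤ p ^ 2 := by nlinarith
  have h2 := h.y_lt
  calc p ^ 2 * ((p ^ 2 - 1) * y) < p ^ 2 * (p ^ 2 * p) := by
        apply Nat.mul_lt_mul_of_pos_left _ (by positivity)
        calc (p ^ 2 - 1) * y ≤ p ^ 2 * y := Nat.mul_le_mul_right _ (by omega)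
          _ < p ^ 2 * p := Nat.mul_lt_mul_of_pos_left h2 (by positivity)
    _ = p ^ 5 := by ring

theorem Nsw.not_dvd (h : Nsw p y N) : ¬ p ∣ (p ^ 2 - 1) * y := by
  intro hd
  have h1 := h.p_ge
  rcases (h.prime.dvd_mul).1 hd with h2 | h2
  · have h3 : p ∣ p ^ 2 - (p ^ 2 - 1) := Nat.dvd_sub (dvd_pow_self p two_ne_zero) h2
    have h4 : p ^ 2 - (p ^ 2 - 1) = 1 := by
      have : 49 ≤ p ^ 2 := by nlinarith
      omega
    rw [h4, Nat.dvd_one] at h3
    omega
  · have h3 : p ∣ 2 * y ^ 2 - p ^ 2 :=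
      Nat.dvd_sub (Dvd.dvd.mul_left (dvd_pow h2 two_ne_zero) 2) (dvd_pow_self p two_ne_zero)
    rw [← h.eq, Nat.add_sub_cancel_left, Nat.dvd_one] at h3
    omega

/-- the prime powers dividing `N` other than powers of `p` are small -/
theorem Nsw.small (h : Nsw p y N) {r a : ℕ} (hr : r.Prime) (hrp : r ≠ p) (hd : r ^ a ∣ N) :
    r ^ a ≤ 2 * (p + 1) := by
  have h7 := h.p_ge
  have h5 := h.y_ge
  have hy := h.y_lt
  have h1 : Nat.Coprime (r ^ a) (p ^ 2) := ((Nat.coprime_primes hr h.prime).2 hrp).pow a 2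
  rw [h.card] at hd
  have h2 : r ^ a ∣ (p ^ 2 - 1) * y := h1.dvd_of_dvd_mul_left hd
  rw [h.factor] at h2
  have hcop : ∀ {m : ℕ}, ¬ r ∣ m → Nat.Coprime (r ^ a) m := fun hm =>
    ((Nat.Prime.coprime_iff_not_dvd hr).2 hm).pow_left a
  rcases eq_or_ne r 2 with rfl | hr2
  · have h3 : ¬ 2 ∣ y := by have := h.odd_y; omega
    have h4 : 2 ^ a ∣ (p - 1) * (p + 1) := (hcop h3).dvd_of_dvd_mul_right h2
    obtain ⟨k, rfl⟩ : ∃ k, p = 2 * k + 1 := ⟨p / 2, by have := h.odd_p; omega⟩
    have h6 : (2 * k + 1 - 1) * (2 * k + 1 + 1) = 4 * k * (k + 1) := by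
      rw [Nat.add_sub_cancel]; ring
    rw [h6] at h4
    by_cases hk : 2 ∣ k
    · have h8 : ¬ 2 ∣ k + 1 := by omega
      have h9 := (hcop h8).dvd_of_dvd_mul_right h4
      have := Nat.le_of_dvd (by omega) h9
      omega
    · have h4' : 2 ^ a ∣ k * (4 * (k + 1)) := by
        have : k * (4 * (k + 1)) = 4 * k * (k + 1) := by ring
        rwa [this]
      have h9 := (hcop hk).dvd_of_dvd_mul_left h4'
      have := Nat.le_of_dvd (by omega) h9
      omega
  · -- `r` odd
    have h2r : ¬ r ∣ 2 := fun h => hr2 ((Nat.prime_dvd_prime_iff_eq hr Nat.prime_two).1 h)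
    by_cases hy' : r ∣ y
    · have h3 : ¬ r ∣ (p - 1) * (p + 1) := by
        intro h4
        rw [← h.factor] at h4
        have h6 : r ∣ 2 * y ^ 2 - (p ^ 2 - 1) :=
          Nat.dvd_sub (Dvd.dvd.mul_left (dvd_pow hy' two_ne_zero) 2) h4
        rw [← h.eq] at h6
        have h8 : p ^ 2 + 1 - (p ^ 2 - 1) = 2 := by
          have : 49 ≤ p ^ 2 := by nlinarith
          omega
        rw [h8] at h6
        exact h2r h6
      have h9 := (hcop h3).dvd_of_dvd_mul_left h2
      have := Nat.le_of_dvd (by omega) h9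
      omega
    · have h4 : r ^ a ∣ (p - 1) * (p + 1) := (hcop hy').dvd_of_dvd_mul_right h2
      by_cases h6 : r ∣ p + 1
      · have h8 : ¬ r ∣ p - 1 := by
          intro h8
          have h9 := Nat.dvd_sub h6 h8
          have h10 : p + 1 - (p - 1) = 2 := by omega
          rw [h10] at h9
          exact h2r h9
        have h9 := (hcop h8).dvd_of_dvd_mul_left h4
        have := Nat.le_of_dvd (by omega) h9
        omega
      · have h9 := (hcop h6).dvd_of_dvd_mul_right h4
        have := Nat.le_of_dvd (by omega) h9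
        omega

theorem lie_false (hn : Nsw p y N) {T : LT} {r f : ℕ} (h : IsOrd T r f N) : False := by
  have h7 := hn.p_ge
  have h5 := hn.y_ge
  have h1 := le_cube h
  have h2 := pow_dvd h
  rw [← pow_mul r] at h1 h2
  set a := f * T.expo with ha
  have hc := hn.card
  have hfac := hn.factor
  rcases eq_or_ne r p with rfl | hrp
  · have h3 : r ^ a ∣ r ^ 2 := by
      rw [hc] at h2
      exact (((Nat.Prime.coprime_iff_not_dvd hn.prime).2 hn.not_dvd).pow_left a).dvd_of_dvd_mul_right h2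
    have h4 : a ≤ 2 := (Nat.pow_dvd_pow_iff_le_right hn.prime.one_lt).1 h3
    have h6 : 2 ≤ a := by
      by_contra hlt
      have h8 : r ^ a ≤ r ^ 1 := Nat.pow_le_pow_right hn.prime.pos (by omega)
      rw [pow_one] at h8
      have h9 : (r ^ a) ^ 3 ≤ r ^ 3 := Nat.pow_le_pow_left h8 3
      have h10 : N ≤ r ^ 3 := h1.trans h9
      have h11 : r ^ 3 < N := by
        rw [hc]
        calc r ^ 3 = r ^ 2 * r := by ring
          _ < r ^ 2 * ((r ^ 2 - 1) * y) := by
            apply Nat.mul_lt_mul_of_pos_left _ (by positivity)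
            rw [hfac]
            obtain ⟨k, rfl⟩ : ∃ k, r = k + 1 := Nat.exists_eq_add_of_le' (by omega)
            simp only [Nat.add_sub_cancel]
            have : 1 ≤ k * y := Nat.mul_pos (by omega) (by omega)
            nlinarith
      omega
    have h8 : f * T.expo = 2 := by omega
    have hf := h.f_ne
    have hv := h.valid
    have hbad : ¬ 3 ≤ T.expo := by
      intro h9
      have : 1 * 3 ≤ f * T.expo := Nat.mul_le_mul (by omega) h9
      omega
    cases T with
    | A n =>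
      have hn2 : n = 2 := by
        by_contra hne
        have h9 : 3 ≤ n := by have := hv.1; omega
        apply hbad
        simp only [LT.expo]
        rw [Nat.le_div_iff_mul_le (by norm_num)]
        exact Nat.mul_le_mul h9 (show 2 ≤ n - 1 by omega)
      subst hn2
      have hf2 : f = 2 := by simpa [LT.expo] using h8
      subst hf2
      have h9 := h.eq
      simp only [LT.dd, LT.expo, LT.cof] at h9
      norm_num at h9
      set g := Nat.gcd 2 (r ^ 2 - 1) with hg
      have hg2 : g ≤ 2 := Nat.gcd_le_left _ (by norm_num)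
      have h10 : (r ^ 2) ^ 2 - 1 = (r ^ 2 - 1) * (r ^ 2 + 1) := by
        obtain ⟨k, hk⟩ : ∃ k, r ^ 2 = k + 1 := Nat.exists_eq_add_of_le' (Nat.one_le_pow _ _ hn.prime.pos)
        rw [hk]
        have : (k + 1) ^ 2 = k * (k + 1 + 1) + 1 := by ring
        rw [this]
        simp
      rw [h10, hc, hn.eq] at h9
      have h11 : 0 < r ^ 2 * (r ^ 2 - 1) * y := by
        have := hn.pos
        rw [hc, ← mul_assoc] at this
        exact this
      have h12 : (r ^ 2 * (r ^ 2 - 1) * y) * g = (r ^ 2 * (r ^ 2 - 1) * y) * (2 * y) := by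
        calc (r ^ 2 * (r ^ 2 - 1) * y) * g = g * (r ^ 2 * ((r ^ 2 - 1) * y)) := by ring
          _ = r ^ 2 * ((r ^ 2 - 1) * (2 * y ^ 2)) := h9
          _ = _ := by ring
      have h13 := Nat.eq_of_mul_eq_mul_left h11 h12
      omega
    | U n =>
      apply hbad
      simp only [LT.expo]
      rw [Nat.le_div_iff_mul_le (by norm_num)]
      have h9 := hv.1
      exact Nat.mul_le_mul h9 (show 2 ≤ n - 1 by omega)
    | C m =>
      apply hbad
      simp only [LT.expo]
      have := hv.1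
      nlinarith
    | P m =>
      apply hbad
      simp only [LT.expo]
      have h9 : 4 ≤ m := hv
      calc 3 ≤ 4 * 3 := by norm_num
        _ ≤ m * (m - 1) := Nat.mul_le_mul h9 (by omega)
    | M m =>
      apply hbad
      simp only [LT.expo]
      have h9 : 4 ≤ m := hv
      calc 3 ≤ 4 * 3 := by norm_num
        _ ≤ m * (m - 1) := Nat.mul_le_mul h9 (by omega)
    | G2 => exact hbad (by decide)
    | F4 => exact hbad (by decide)
    | E6 => exact hbad (by decide)
    | E7 => exact hbad (by decide)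
    | E8 => exact hbad (by decide)
    | TE6 => exact hbad (by decide)
    | TD4 => exact hbad (by decide)
    | Sz =>
      have h9 : r = 2 := hv.1
      omega
    | Ree => exact hbad (by decide)
    | TF4 => exact hbad (by decide)
  · have h3 := hn.small h.prime hrp h2
    have h4 : (r ^ a) ^ 3 ≤ (2 * (p + 1)) ^ 3 := Nat.pow_le_pow_left h3 3
    have h6 : N ≤ (2 * (p + 1)) ^ 3 := h1.trans h4
    rw [hc, hfac] at h6
    obtain ⟨k, rfl⟩ : ∃ k, p = k + 1 := Nat.exists_eq_add_of_le' (by omega)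
    simp only [Nat.add_sub_cancel] at h6
    have h8 : (k + 1) ^ 2 * (k * (k + 1 + 1) * 5) ≤ (k + 1) ^ 2 * (k * (k + 1 + 1) * y) := by gcongr
    have h9 : (k + 1) ^ 2 * (k * (k + 1 + 1) * 5) ≤ (2 * (k + 1 + 1)) ^ 3 := h8.trans h6
    obtain ⟨m, rfl⟩ : ∃ m, k = m + 6 := Nat.exists_eq_add_of_le' (by omega)
    have h10 : (m + 6 + 1 + 1) * ((m + 6 + 1) ^ 2 * ((m + 6) * 5)) ≤ (m + 6 + 1 + 1) * (8 * (m + 6 + 1 + 1) ^ 2) := by
      calc _ = (m + 6 + 1) ^ 2 * ((m + 6) * (m + 6 + 1 + 1) * 5) := by ring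
        _ ≤ _ := h9
        _ = _ := by ring
    have h11 := Nat.le_of_mul_le_mul_left h10 (by omega)
    nlinarith

theorem two_mul_le_of_sq_dvd_factorial {p n : ℕ} (hp : p.Prime) (h : p ^ 2 ∣ n.factorial) : 2 * p ≤ n := by
  by_contra hlt
  have h2 := hp.two_le
  have h1 : Nat.log p n < 2 := by
    apply Nat.log_lt_of_lt_pow'
    · norm_num
    · nlinarith
  have h3 := (Nat.Prime.pow_dvd_factorial_iff hp h1).1 h
  rw [show Ico 1 2 = {1} from rfl, Finset.sum_singleton, pow_one, Nat.le_div_iff_mul_le hp.pos] at h3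
  omega

theorem alt_false (hn : Nsw p y N) {n : ℕ} (h : 2 * N = n.factorial) : False := by
  have h7 := hn.p_ge
  have h1 : p ^ 2 ∣ n.factorial := by
    rw [← h, hn.card]
    exact Dvd.dvd.mul_left (dvd_mul_right _ _) 2
  have h2 := two_mul_le_of_sq_dvd_factorial hn.prime h1
  have h3 : (p + p).factorial ≤ n.factorial := Nat.factorial_le (by omega)
  have h4 : p.factorial * (p + 1) ^ p ≤ (p + p).factorial := Nat.factorial_mul_pow_le_factorial
  have h5 : (p + 1) ^ 7 ≤ (p + 1) ^ p := Nat.pow_le_pow_right (by omega) h7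
  have h6 := hn.lt
  have h8 : 1 ≤ p.factorial := Nat.factorial_pos p
  have h9 : (p + 1) ^ p ≤ p.factorial * (p + 1) ^ p := Nat.le_mul_of_pos_left _ h8
  have h10 : 2 * p ^ 5 < (p + 1) ^ 7 := by
    calc 2 * p ^ 5 ≤ (p + 1) * (p + 1) ^ 5 :=
          Nat.mul_le_mul (by omega) (Nat.pow_le_pow_left (by omega) 5)
      _ = (p + 1) ^ 6 := by ring
      _ < (p + 1) ^ 7 := Nat.pow_lt_pow_right (by omega) (by norm_num)
  omega

/-- the orders of the Tits group and the sporadic groups -/
def sporList : List ℕ :=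
  [17971200, 7920, 95040, 443520, 10200960, 244823040, 175560, 604800, 50232960, 86775571046077562880,
    44352000, 4030387200, 898128000, 448345497600, 51765179004000000, 460815505920, 145926144000,
    4157776806543360000, 42305421312000, 495766656000, 64561751654400, 4089470473293004800,
    1255205709190661721292800, 90745943887872000, 273030912000000, 4154781481226426191177580544000000,
    808017424794512875886459904961710757005754368000000000]

theorem sporList_smooth : ∀ M ∈ sporList, M ∣ (Nat.factorial 71) ^ 46 := by decide +kernel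

theorem sporList_check : ∀ M ∈ sporList, ∀ p ∈ List.range 72, 7 ≤ p → p ^ 2 * (p ^ 2 - 1) ∣ M → p ≠ 15 →
    p ^ 5 ≤ M := by
  decide +kernel

theorem spor_false (hn : Nsw p y N) (h : N ∈ sporList) : False := by
  have h7 := hn.p_ge
  have h1 : p ∣ (Nat.factorial 71) ^ 46 := by
    refine Dvd.dvd.trans ?_ (sporList_smooth N h)
    rw [hn.card]
    exact Dvd.dvd.mul_right (dvd_pow_self p two_ne_zero) _
  have h2 : p ≤ 71 := (hn.prime.dvd_factorial).1 (hn.prime.dvd_of_dvd_pow h1)
  have h3 := sporList_check N h p (List.mem_range.2 (by omega)) h7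
    (by rw [hn.card, ← mul_assoc]; exact dvd_mul_right _ _)
    (by rintro rfl; exact absurd hn.prime (by norm_num))
  have := hn.lt
  omega

end Nsw

end Cfsg.Agent.H625.OrdSq
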