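import Cfsg.Agent.S4441
import Cfsg.Agent.Blocks.CyclicOrtho
import Cfsg.Agent.Blocks.ExistsModular
import Cfsg.Agent.Characters.CCValues
import Cfsg.Agent.H672.Over
import Cfsg.Agent.H625.Real
import Cfsg.Agent.H686.CharKit
import Cfsg.Agent.H619.R4.Defs

/-!
# Real characters in the principal block, Sylow subgroup of prime order

`P` a Sylow `p`-subgroup of order `p` (`p` odd) such that `|N(P) : C(P)|` is even (equivalently the elements of
`P` are real).

* `exists_inverting` : an element inverting `P`;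
* `apply_inv_of_dvd` : the characters of the principal block are real on the `p`-singular elements;
* `two_real` : the principal block contains two nontrivial real characters of different degrees prime to `p`
  (a parity argument, no Brauer trees);
* `eq_one_of_le_ker` : a character of the principal block trivial on `K`, where `P ≤ K` and `G = K C(P)`, is
  the trivial character.
-/

set_option autoImplicit false
set_option linter.unusedSectionVars false

namespace Cfsg.Agent.H625.RealStem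

open Cfsg Cfsg.Agent.Characters Cfsg.Agent.Blocks Cfsg.Agent.H625.Real
open scoped ComplexConjugate

universe u

variable {G : Type u} [Group G] [Finite G] {p : ℕ} [hp : Fact p.Prime]

/-- If `|N(P) : C(P)|` is even (`|P| = p` odd), then some element inverts `P`. -/
theorem exists_inverting (hp2 : p ≠ 2) (P : Sylow p G) (hP : Nat.card P = p)
    (he : Even ((Subgroup.centralizer ((P : Subgroup G) : Set G)).relIndex
      (Subgroup.normalizer ((P : Subgroup G) : Set G)))) :
    ∃ n ∈ Subgroup.normalizer ((P : Subgroup G) : Set G), ∀ y ∈ (P : Subgroup G), n * y * n⁻¹ = y⁻¹ := by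
  classical
  set C := Subgroup.centralizer ((P : Subgroup G) : Set G) with hC
  set N := Subgroup.normalizer ((P : Subgroup G) : Set G) with hN
  have hnorm : (C.subgroupOf N).Normal := by
    rw [hC, hN]
    constructor
    rintro ⟨c, hcN⟩ hc ⟨g, hg⟩
    rw [Subgroup.mem_subgroupOf] at hc ⊢
    simp only [Subgroup.coe_mul, Subgroup.coe_inv]
    rw [Subgroup.mem_centralizer_iff] at hc ⊢
    intro y hy
    have h1 : g⁻¹ * y * g ∈ (P : Subgroup G) := by
      rw [Subgroup.mem_normalizer_iff.1 hg]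
      have : g * (g⁻¹ * y * g) * g⁻¹ = y := by group
      rwa [this]
    have h2 := hc _ h1
    calc y * (g * c * g⁻¹) = g * ((g⁻¹ * y * g) * c) * g⁻¹ := by group
      _ = g * (c * (g⁻¹ * y * g)) * g⁻¹ := by rw [h2]
      _ = g * c * g⁻¹ * y := by group
  have h2 : 2 ∣ Nat.card (N ⧸ C.subgroupOf N) := he.two_dvd
  haveI : Fact (Nat.Prime 2) := ⟨Nat.prime_two⟩
  obtain ⟨q, hq⟩ := exists_prime_orderOf_dvd_card' 2 h2
  obtain ⟨⟨n, hn⟩, rfl⟩ := QuotientGroup.mk_surjective q
  have hnC : n ∉ C := by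
    intro h
    have h3 : (QuotientGroup.mk (⟨n, hn⟩ : N) : N ⧸ C.subgroupOf N) = 1 := by
      rw [QuotientGroup.eq_one_iff]
      exact h
    rw [h3, orderOf_one] at hq
    exact absurd hq (by norm_num)
  have hn2 : n * n ∈ C := by
    have h3 : (QuotientGroup.mk (⟨n, hn⟩ : N) : N ⧸ C.subgroupOf N) ^ 2 = 1 := by
      rw [← hq]; exact pow_orderOf_eq_one _
    rw [pow_two, ← QuotientGroup.mk_mul, QuotientGroup.eq_one_iff] at h3
    exact h3
  refine ⟨n, hn, fun y hy => ?_⟩
  have hcomm : ∀ a ∈ (P : Subgroup G), ∀ b ∈ (P : Subgroup G), a * b = b * a := by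
    have hcy : IsCyclic P := isCyclic_of_prime_card hP
    have hab : IsMulCommutative P := IsCyclic.isMulCommutative
    intro a ha b hb
    exact congrArg Subtype.val (hab.is_comm.comm (⟨a, ha⟩ : P) ⟨b, hb⟩)
  have hy' : n * y * n⁻¹ ∈ (P : Subgroup G) := (Subgroup.mem_normalizer_iff.1 hn y).1 hy
  have h3 : n * (n * y * n⁻¹) * n⁻¹ = y := by
    have h4 := Subgroup.mem_centralizer_iff.1 hn2 y hy
    calc n * (n * y * n⁻¹) * n⁻¹ = (n * n) * y * (n * n)⁻¹ := by group
      _ = (y * (n * n)) * (n * n)⁻¹ := by rw [h4]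
      _ = y := by group
  have h5 : n * (y * (n * y * n⁻¹)) * n⁻¹ = y * (n * y * n⁻¹) := by
    calc n * (y * (n * y * n⁻¹)) * n⁻¹ = (n * y * n⁻¹) * (n * (n * y * n⁻¹) * n⁻¹) := by group
      _ = (n * y * n⁻¹) * y := by rw [h3]
      _ = y * (n * y * n⁻¹) := hcomm _ hy' _ hy
  have h6 : y * (n * y * n⁻¹) = 1 := by
    by_contra hne
    apply hnC
    rw [hC, ← CyclicOrtho.centralizer_eq P hP ((P : Subgroup G).mul_mem hy hy') hne,
      Subgroup.mem_centralizer_singleton_iff]
    calc n * (y * (n * y * n⁻¹)) = n * (y * (n * y * n⁻¹)) * n⁻¹ * n := by group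
      _ = y * (n * y * n⁻¹) * n := by rw [h5]
  exact (inv_eq_of_mul_eq_one_right h6).symm

/-- The value of a character of the principal block at a `p`-singular element. -/
theorem exists_part {M : Ideal AlgInt} (hM : IsPModular p M) (P : Sylow p G) (hP : Nat.card P = p)
    {g : G} (hg : p ∣ orderOf g) :
    ∃ c x y : G, x ∈ (P : Subgroup G) ∧ x ≠ 1 ∧ Commute x y ∧ ¬ p ∣ orderOf y ∧ c * g * c⁻¹ = x * y := by
  obtain ⟨x, y, hxyg, hxy, hx, hy⟩ := PPart.exists_isPPart p g
  have hx1 : x ≠ 1 := by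
    rintro rfl
    rw [one_mul] at hxyg
    rw [← hxyg] at hg
    exact hy hg
  have hxp : IsPGroup p (Subgroup.zpowers x) := by
    obtain ⟨k, hk⟩ := hx
    exact IsPGroup.of_card (n := k) (by rw [Nat.card_zpowers, hk])
  obtain ⟨Q, hQ⟩ := hxp.exists_le_sylow
  obtain ⟨c, hc⟩ := MulAction.exists_smul_eq G Q P
  refine ⟨c, c * x * c⁻¹, c * y * c⁻¹, ?_, ?_, hxy.map (MulAut.conj c).toMonoidHom, ?_, ?_⟩
  · rw [← hc]
    have h1 : x ∈ (Q : Subgroup G) := hQ (Subgroup.mem_zpowers x)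
    show c * x * c⁻¹ ∈ ((c • Q : Sylow p G) : Subgroup G)
    rw [Sylow.coe_subgroup_smul]
    exact Subgroup.smul_mem_pointwise_smul _ (MulAut.conj c) _ h1
  · intro h
    apply hx1
    have : x = c⁻¹ * (c * x * c⁻¹) * c := by group
    rw [this, h]; group
  · have h2 : orderOf (c * y * c⁻¹) = orderOf y :=
      orderOf_injective (MulAut.conj c).toMonoidHom (MulAut.conj c).injective y
    rw [h2]; exact hy
  · rw [← hxyg]; group

/-- The characters of the principal block are real on the `p`-singular elements. -/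
theorem apply_inv_of_dvd {M : Ideal AlgInt} (hM : IsPModular p M) (hp2 : p ≠ 2) (P : Sylow p G) (hP : Nat.card P = p)
    (he : Even ((Subgroup.centralizer ((P : Subgroup G) : Set G)).relIndex
      (Subgroup.normalizer ((P : Subgroup G) : Set G)))) {χ : IrrCharacter G} (hχ : χ ∈ principalBlock M G)
    {g : G} (hg : p ∣ orderOf g) : (χ : G → ℂ) g⁻¹ = (χ : G → ℂ) g := by
  obtain ⟨n, -, hn⟩ := exists_inverting hp2 P hP he
  obtain ⟨c, x, y, hx, hx1, hxy, hy, hcg⟩ := exists_part hM P hP hg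
  have hcl : ∀ a b : G, (χ : G → ℂ) (b * a * b⁻¹) = (χ : G → ℂ) a := fun a b =>
    Core.isIrr_isClassFunction χ.2 a b
  have h1 : (χ : G → ℂ) g = (χ : G → ℂ) x := by
    rw [← hcl g c, hcg, CyclicOrtho.mul_eq P hP hM hx hx1 hxy hy hχ]
  have h2 : (χ : G → ℂ) g⁻¹ = (χ : G → ℂ) x⁻¹ := by
    have h3 : c * g⁻¹ * c⁻¹ = x⁻¹ * y⁻¹ := by
      have h4 : c * g⁻¹ * c⁻¹ = (c * g * c⁻¹)⁻¹ := by group
      rw [h4, hcg, hxy.eq, mul_inv_rev]
    rw [← hcl g⁻¹ c, h3, CyclicOrtho.mul_eq P hP hM (inv_mem hx) (inv_ne_one.2 hx1) hxy.inv_inv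
      (by rwa [orderOf_inv]) hχ]
  rw [h1, h2, ← hn x hx, hcl]

/-- Nonreal characters cancel modulo two. -/
theorem sum_real_zmod (S : Finset (IrrCharacter G)) (hS : ∀ χ ∈ S, conjI χ ∈ S) (f : IrrCharacter G → ZMod 2)
    (hf : ∀ χ ∈ S, f (conjI χ) = f χ) [DecidablePred fun χ : IrrCharacter G => conjI χ = χ] :
    ∑ χ ∈ S.filter (fun χ => conjI χ = χ), f χ = ∑ χ ∈ S, f χ := by
  classical
  rw [← Finset.sum_filter_add_sum_filter_not S (fun χ => conjI χ = χ)]
  have h1 : ∑ χ ∈ S.filter (fun χ => ¬ conjI χ = χ), f χ = 0 := by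
    refine Finset.sum_involution (fun χ _ => conjI χ) ?_ ?_ ?_ ?_
    · intro χ hχ
      rw [hf χ (Finset.mem_filter.1 hχ).1]
      exact CharTwo.add_self_eq_zero _
    · intro χ hχ _
      exact (Finset.mem_filter.1 hχ).2
    · intro χ hχ
      have h2 := Finset.mem_filter.1 hχ
      refine Finset.mem_filter.2 ⟨hS χ h2.1, fun h => h2.2 ?_⟩
      rw [conjI_conjI] at h
      exact h.symm
    · intro χ _
      exact conjI_conjI χ
  rw [h1, add_zero]

theorem im_eq_zero {χ : IrrCharacter G} (h : conjI χ = χ) (g : G) : ((χ : G → ℂ) g).im = 0 := by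
  rw [← Complex.conj_eq_iff_im, ← conjI_apply, h]

theorem deg_conjI (χ : IrrCharacter G) : charDegree (conjI χ : G → ℂ) = charDegree (χ : G → ℂ) := by
  have h1 := H672.coe_charDegree (conjI χ).2
  have h2 := H672.coe_charDegree χ.2
  have h3 := conjI_apply_one χ
  rw [← h1, ← h2] at h3
  exact_mod_cast h3

theorem deg_one : charDegree (CCValues.one G : G → ℂ) = 1 := by
  have h1 := H672.coe_charDegree (CCValues.one G).2
  have h2 : (CCValues.one G : G → ℂ) 1 = 1 := rfl
  rw [h2] at h1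
  exact_mod_cast h1

theorem one_mem {M : Ideal AlgInt} (hM : IsPModular p M) : CCValues.one G ∈ principalBlock M G := by
  intro g
  change MemLocalIdeal M (centralChar (fun _ : G => (1 : ℂ)) g - centralChar (fun _ : G => (1 : ℂ)) g)
  rw [sub_self]
  exact Induced.memLocalIdeal_zero hM.2.1.isPrime

theorem conjI_one : conjI (CCValues.one G) = CCValues.one G := by
  apply Subtype.ext
  funext g
  show conj ((1 : G → ℂ) g) = (1 : G → ℂ) g
  simp

theorem conjI_mem_principal {M : Ideal AlgInt} (hM : IsPModular p M) {χ : IrrCharacter G}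
    (hχ : χ ∈ principalBlock M G) : conjI χ ∈ principalBlock M G := by
  haveI := hM.2.1.isPrime
  refine conjI_mem (B := principalBlock M G) ⟨CCValues.one G, rfl⟩ (one_mem hM) ?_ hχ
  rw [conjI_one]
  exact Basic.sameBlock_refl _

theorem real_of_inv {χ : IrrCharacter G} (h : ∀ g, (χ : G → ℂ) g⁻¹ = (χ : G → ℂ) g) : conjI χ = χ := by
  apply Subtype.ext
  funext g
  rw [conjI_apply, ← apply_inv, h]

/-- the inertial index divides `p - 1` -/
theorem relIndex_dvd (P : Sylow p G) (hP : Nat.card P = p) :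
    (Subgroup.centralizer ((P : Subgroup G) : Set G)).relIndex
      (Subgroup.normalizer ((P : Subgroup G) : Set G)) ∣ p - 1 := by
  have hcy : IsCyclic (P : Subgroup G) := isCyclic_of_prime_card hP
  have key := Subgroup.card_dvd_of_injective _
    (QuotientGroup.kerLift_injective (P : Subgroup G).normalizerMonoidHom)
  rw [Subgroup.normalizerMonoidHom_ker, ← Subgroup.index, ← Subgroup.relIndex, IsCyclic.card_mulAut] at key
  have h1 : Nat.card (P : Subgroup G) = p := hP
  rwa [h1, Nat.totient_prime hp.out] at key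

theorem dvd_small {a : ℤ} (h : (p : ℤ) ∣ a) (h1 : |a| < p) : a = 0 := Int.eq_zero_of_abs_lt_dvd h h1

theorem cast_sign {s : ℤ} (h : s = 1 ∨ s = -1) : (s : ZMod 2) = 1 := by
  rcases h with h | h <;> rw [h] <;> decide

/-- **Parity.** `|P| = p` odd Sylow, `e = |N(P) : C(P)|` even: the principal block contains two nontrivial real
characters of different degrees, the first `≡ ± 1` and the second `≡ ± e` modulo `p`. -/
theorem two_real {M : Ideal AlgInt} (hM : IsPModular p M) (hp2 : p ≠ 2) (P : Sylow p G) (hP : Nat.card P = p)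
    {e : ℕ} (hee : (Subgroup.centralizer ((P : Subgroup G) : Set G)).relIndex
      (Subgroup.normalizer ((P : Subgroup G) : Set G)) = e) (he : Even e) :
    ∃ χ₁ ∈ principalBlock M G, ∃ χ₂ ∈ principalBlock M G, conjI χ₁ = χ₁ ∧ conjI χ₂ = χ₂ ∧
      χ₁ ≠ CCValues.one G ∧ χ₂ ≠ CCValues.one G ∧
      charDegree (χ₁ : G → ℂ) ≠ charDegree (χ₂ : G → ℂ) ∧
      (∃ s : ℤ, (s = 1 ∨ s = -1) ∧ (p : ℤ) ∣ (charDegree (χ₁ : G → ℂ) : ℤ) - s) ∧
      (∃ s : ℤ, (s = 1 ∨ s = -1) ∧ (p : ℤ) ∣ (charDegree (χ₂ : G → ℂ) : ℤ) - s * e) := by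
  classical
  have := Fintype.ofFinite G
  haveI : Finite (IrrCharacter G) := Core.finite_irr
  have hpp : p.Prime := hp.out
  have hp3 : 3 ≤ p := by
    have := hpp.two_le
    omega
  have hodd : Odd p := hpp.odd_of_ne_two hp2
  have hep : e ∣ p - 1 := hee ▸ relIndex_dvd P hP
  have he0 : e ≠ 0 := by
    rintro rfl
    rw [zero_dvd_iff] at hep
    omega
  have he2 : 2 ≤ e := by
    obtain ⟨k, hk⟩ := he
    omega
  have hep1 : e ≤ p - 1 := Nat.le_of_dvd (by omega) hep
  obtain ⟨X, Y, hXY, hdis, hX, hY, δ, ε, hδ, hε, hY1, hYY, hrel⟩ := S4441.result p M hM hp2 P hP e hee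
  have hB : ∀ χ : IrrCharacter G, χ ∈ principalBlock M G ↔ χ ∈ X ∨ χ ∈ Y := fun χ => by
    rw [hXY]; exact Set.mem_union _ _ _
  have hone : CCValues.one G ∈ principalBlock M G := one_mem hM
  have hconj : ∀ χ ∈ principalBlock M G, conjI χ ∈ principalBlock M G := fun χ hχ =>
    conjI_mem_principal hM hχ
  -- finsets
  set X' : Finset (IrrCharacter G) := X.toFinite.toFinset with hX'
  have hmX : ∀ χ, χ ∈ X' ↔ χ ∈ X := fun χ => Set.Finite.mem_toFinset _
  have hcX : X'.card = e := by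
    rw [← hX, Nat.card_coe_set_eq, Set.ncard_eq_toFinset_card X X.toFinite]
  have hdX : ∀ χ ∈ X, (p : ℤ) ∣ (charDegree (χ : G → ℂ) : ℤ) - δ χ := fun χ hχ =>
    ((hδ χ hχ).2.1).symm.dvd
  have hdY : ∀ θ ∈ Y, (p : ℤ) ∣ (charDegree (θ : G → ℂ) : ℤ) - ε * e := fun θ hθ =>
    (hY1 θ hθ).symm.dvd
  rcases Nat.lt_or_ge e (p - 1) with hlt | hge
  · -- `e < p - 1`
    have hsep : ∀ s t : ℤ, (s = 1 ∨ s = -1) → (t = 1 ∨ t = -1) → ¬ (p : ℤ) ∣ s - t * e := by
      intro s t hs ht hd
      have h1 : s - t * e = 0 := by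
        apply dvd_small hd
        rw [abs_lt]
        rcases hs with h | h <;> rcases ht with h' | h' <;> rw [h, h'] <;> constructor <;> omega
      rcases hs with h | h <;> rcases ht with h' | h' <;> rw [h, h'] at h1 <;> omega
    have hsepc : ∀ χ ∈ X, ∀ θ ∈ Y, charDegree (χ : G → ℂ) ≠ charDegree (θ : G → ℂ) := by
      intro χ hχ θ hθ h
      refine hsep (δ χ) ε (hδ χ hχ).1 hε ?_
      have h1 := dvd_sub (hdY θ hθ) (hdX χ hχ)
      rw [h] at h1
      have h2 : (charDegree (θ : G → ℂ) : ℤ) - ε * e - ((charDegree (θ : G → ℂ) : ℤ) - δ χ) = δ χ - ε * e := by ring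
      rwa [h2] at h1
    have h1Y : CCValues.one G ∉ Y := by
      intro h
      refine hsep 1 ε (Or.inl rfl) hε ?_
      have h1 := hdY _ h
      rw [deg_one] at h1
      exact_mod_cast h1
    have h1X : CCValues.one G ∈ X := ((hB _).1 hone).resolve_right h1Y
    have hYne : Y.Nonempty := by
      rw [← Set.nonempty_coe_sort]
      refine (Nat.card_pos_iff.1 ?_).1
      rw [hY]
      exact Nat.div_pos hep1 (by omega)
    have hcX' : ∀ χ ∈ X, conjI χ ∈ X := by
      intro χ hχ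
      refine ((hB _).1 (hconj χ ((hB χ).2 (Or.inl hχ)))).resolve_right fun h => ?_
      exact hsepc χ hχ _ h (deg_conjI χ).symm
    have hcY' : ∀ θ ∈ Y, conjI θ ∈ Y := by
      intro θ hθ
      refine ((hB _).1 (hconj θ ((hB θ).2 (Or.inr hθ)))).resolve_left fun h => ?_
      exact hsepc _ h θ hθ (deg_conjI θ)
    obtain ⟨θ, hθ⟩ := hYne
    have hθr : conjI θ = θ := by
      apply real_of_inv
      intro g
      by_cases hg : p ∣ orderOf g
      · exact apply_inv_of_dvd hM hp2 P hP (hee ▸ he) ((hB θ).2 (Or.inr hθ)) hg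
      · rw [apply_inv]
        exact hYY _ (hcY' θ hθ) θ hθ g hg
    obtain ⟨χ, hχX, hχr, hχ1⟩ : ∃ χ ∈ X, conjI χ = χ ∧ χ ≠ CCValues.one G := by
      by_contra hcon
      push Not at hcon
      have h1 := sum_real_zmod X' (fun χ hχ => (hmX _).2 (hcX' χ ((hmX χ).1 hχ))) (fun _ => 1)
        (fun _ _ => rfl)
      have h2 : X'.filter (fun χ => conjI χ = χ) = {CCValues.one G} := by
        ext χ
        rw [Finset.mem_filter, Finset.mem_singleton]
        constructor
        · rintro ⟨h3, h4⟩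
          exact hcon χ ((hmX χ).1 h3) h4
        · rintro rfl
          exact ⟨(hmX _).2 h1X, conjI_one⟩
      rw [h2, Finset.sum_singleton, Finset.sum_const, hcX, nsmul_eq_mul, mul_one] at h1
      have h3 : ((e : ℕ) : ZMod 2) = 0 := (ZMod.natCast_eq_zero_iff e 2).2 he.two_dvd
      rw [h3] at h1
      exact one_ne_zero h1
    exact ⟨χ, (hB χ).2 (Or.inl hχX), θ, (hB θ).2 (Or.inr hθ), hχr, hθr, hχ1,
      fun h => h1Y (h ▸ hθ), hsepc χ hχX θ hθ, ⟨δ χ, (hδ χ hχX).1, hdX χ hχX⟩, ⟨ε, hε, hdY θ hθ⟩⟩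
  · -- `e = p - 1`
    have hepe : e = p - 1 := le_antisymm hep1 hge
    have hcardY : Nat.card Y = 1 := by rw [hY, hepe]; exact Nat.div_self (by omega)
    obtain ⟨hsub, hne⟩ := Nat.card_eq_one_iff_unique.1 hcardY
    obtain ⟨θ, hθ⟩ := hne
    have hYθ : ∀ ψ ∈ Y, ψ = θ := fun ψ hψ =>
      congrArg Subtype.val (Subsingleton.elim (⟨ψ, hψ⟩ : Y) ⟨θ, hθ⟩)
    have hθX : θ ∉ X' := fun h => Set.disjoint_left.1 hdis ((hmX θ).1 h) hθ
    set T := insert θ X' with hT
    have hmT : ∀ χ, χ ∈ T ↔ χ ∈ principalBlock M G := by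
      intro χ
      rw [hT, Finset.mem_insert, hmX, hB]
      constructor
      · rintro (rfl | h)
        · exact Or.inr hθ
        · exact Or.inl h
      · rintro (h | h)
        · exact Or.inr h
        · exact Or.inl (hYθ χ h)
    have hcT : T.card = p := by
      rw [hT, Finset.card_insert_of_notMem hθX, hcX, hepe]
      omega
    -- congruences
    have hez : ((e : ℕ) : ℤ) = (p : ℤ) - 1 := by
      rw [hepe, Nat.cast_sub hpp.one_lt.le]; rfl
    have hcong : ∀ χ ∈ T, ∃ s : ℤ, (s = 1 ∨ s = -1) ∧ (p : ℤ) ∣ (charDegree (χ : G → ℂ) : ℤ) - s := by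
      intro χ hχ
      rw [hT, Finset.mem_insert, hmX] at hχ
      rcases hχ with rfl | h
      · refine ⟨-ε, ?_, ?_⟩
        · rcases hε with h | h <;> rw [h] <;> norm_num
        · have h1 := hdY χ hθ
          rw [hez] at h1
          have h2 : (charDegree (χ : G → ℂ) : ℤ) - -ε = (charDegree (χ : G → ℂ) : ℤ) - ε * (p - 1) + p * ε := by ring
          rw [h2]
          exact dvd_add h1 (Dvd.intro _ rfl)
      · exact ⟨δ χ, (hδ χ h).1, hdX χ h⟩
    have hcong2 : ∀ χ ∈ T, ∃ s : ℤ, (s = 1 ∨ s = -1) ∧ (p : ℤ) ∣ (charDegree (χ : G → ℂ) : ℤ) - s * e := by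
      intro χ hχ
      obtain ⟨s, hs, h1⟩ := hcong χ hχ
      refine ⟨-s, ?_, ?_⟩
      · rcases hs with h | h <;> rw [h] <;> norm_num
      · rw [hez]
        have h2 : (charDegree (χ : G → ℂ) : ℤ) - -s * (p - 1) = (charDegree (χ : G → ℂ) : ℤ) - s + p * s := by ring
        rw [h2]
        exact dvd_add h1 (Dvd.intro _ rfl)
    -- the relation
    have hrel1 : (charDegree (θ : G → ℂ) : ZMod 2) = ∑ χ ∈ X', (charDegree (χ : G → ℂ) : ZMod 2) := by
      have h1 := hrel θ hθ 1 (by rw [orderOf_one]; exact hpp.one_lt.ne' ∘ Nat.dvd_one.1)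
      rw [finsum_mem_eq_finite_toFinset_sum _ X.toFinite, ← H672.coe_charDegree θ.2] at h1
      have h2 : ∀ χ ∈ X', (δ χ : ℂ) * (χ : G → ℂ) 1 = ((δ χ * (charDegree (χ : G → ℂ) : ℤ) : ℤ) : ℂ) := by
        intro χ _
        rw [← H672.coe_charDegree χ.2]; push_cast; ring
      rw [Finset.sum_congr rfl h2] at h1
      have h3 : ε * (charDegree (θ : G → ℂ) : ℤ) = ∑ χ ∈ X', δ χ * (charDegree (χ : G → ℂ) : ℤ) := by
        exact_mod_cast h1
      have h4 := congrArg (Int.cast : ℤ → ZMod 2) h3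
      push_cast at h4
      rw [cast_sign hε, one_mul] at h4
      rw [h4]
      refine Finset.sum_congr rfl fun χ hχ => ?_
      rw [cast_sign (hδ χ ((hmX χ).1 hχ)).1, one_mul]
    have hcjT : ∀ χ ∈ T, conjI χ ∈ T := fun χ hχ => (hmT _).2 (hconj χ ((hmT χ).1 hχ))
    have hs1 := sum_real_zmod T hcjT (fun χ => (charDegree (χ : G → ℂ) : ZMod 2)) (fun χ _ => by
      show ((charDegree (conjI χ : G → ℂ) : ℕ) : ZMod 2) = _
      rw [deg_conjI])
    have hs2 := sum_real_zmod T hcjT (fun _ => (1 : ZMod 2)) (fun _ _ => rfl)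
    rw [hT, Finset.sum_insert hθX, ← hT, hrel1, CharTwo.add_self_eq_zero] at hs1
    rw [Finset.sum_const, Finset.sum_const, hcT, nsmul_eq_mul, nsmul_eq_mul, mul_one, mul_one] at hs2
    have hp1 : ((p : ℕ) : ZMod 2) = 1 := (ZMod.natCast_eq_one_iff_odd).2 hodd
    rw [hp1] at hs2
    set R := T.filter (fun χ => conjI χ = χ) with hR
    have h1R : CCValues.one G ∈ R := Finset.mem_filter.2 ⟨(hmT _).2 hone, conjI_one⟩
    obtain ⟨χ₁, h1, χ₂, h2, h12⟩ : ∃ χ₁ ∈ R.erase (CCValues.one G), ∃ χ₂ ∈ R.erase (CCValues.one G),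
        charDegree (χ₁ : G → ℂ) ≠ charDegree (χ₂ : G → ℂ) := by
      by_contra hcon
      push Not at hcon
      rw [← Finset.add_sum_erase R _ h1R, deg_one, Nat.cast_one] at hs1
      have hce : (R.erase (CCValues.one G)).card + 1 = R.card := Finset.card_erase_add_one h1R
      have hce2 : (((R.erase (CCValues.one G)).card : ℕ) : ZMod 2) = 0 := by
        have h3 := congrArg (Nat.cast : ℕ → ZMod 2) hce
        push_cast at h3
        rw [hs2] at h3
        exact add_eq_right.1 h3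
      rcases (R.erase (CCValues.one G)).eq_empty_or_nonempty with h3 | ⟨χ₀, h3⟩
      · rw [h3, Finset.sum_empty, add_zero] at hs1
        exact one_ne_zero hs1
      · rw [Finset.sum_congr rfl fun χ hχ => by rw [hcon χ hχ χ₀ h3], Finset.sum_const, nsmul_eq_mul,
          hce2, zero_mul, add_zero] at hs1
        exact one_ne_zero hs1
    rw [Finset.mem_erase, hR, Finset.mem_filter] at h1 h2
    exact ⟨χ₁, (hmT _).1 h1.2.1, χ₂, (hmT _).1 h2.2.1, h1.2.2, h2.2.2, h1.1, h2.1, h12,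
      hcong χ₁ h1.2.1, hcong2 χ₂ h2.2.1⟩

/-- A character of the principal block which is trivial on a normal subgroup `K ≥ P` with `K C(P) = G` is the
trivial character. -/
theorem eq_one_of_ker {M : Ideal AlgInt} (hM : IsPModular p M) (P : Sylow p G) (hP : Nat.card P = p)
    {K : Subgroup G} [K.Normal] (hPK : (P : Subgroup G) ≤ K)
    (hK : K ⊔ Subgroup.centralizer ((P : Subgroup G) : Set G) = ⊤)
    {χ : IrrCharacter G} (hχ : χ ∈ principalBlock M G)
    (hker : ∀ k ∈ K, (χ : G → ℂ) k = (χ : G → ℂ) 1) : χ = CCValues.one G := by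
  classical
  have := Fintype.ofFinite G
  have hpp : p.Prime := hp.out
  have hker2 : ∀ k ∈ K, ∀ g : G, (χ : G → ℂ) (k * g) = (χ : G → ℂ) g := fun k hk g =>
    H686.CharKit.apply_mul_of_eq (Core.isIrr_isCharacter χ.2) (hker k hk) g
  have hcl : ∀ a b : G, (χ : G → ℂ) (b * a * b⁻¹) = (χ : G → ℂ) a := fun a b =>
    Core.isIrr_isClassFunction χ.2 a b
  have hcv : ∀ g : G, (χ : G → ℂ) g = (χ : G → ℂ) 1 := by
    intro g
    have hg : g ∈ K ⊔ Subgroup.centralizer ((P : Subgroup G) : Set G) := by rw [hK]; trivial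
    obtain ⟨k, hk, c, hc, rfl⟩ := Subgroup.mem_sup_of_normal_left.1 hg
    rw [hker2 k hk]
    obtain ⟨x, y, hxyg, hxy, hx, hy⟩ := PPart.exists_isPPart p c
    -- `x` and `y` are powers of `c`
    obtain ⟨n, hn⟩ := PPart.exists_pow_eq (G := G) p
    have hxc : x = c ^ n := (hn c x ⟨y, hxyg, hxy, hx, hy⟩).symm
    have hxC : x ∈ Subgroup.centralizer ((P : Subgroup G) : Set G) := by
      rw [hxc]; exact pow_mem hc n
    have hyC : y ∈ Subgroup.centralizer ((P : Subgroup G) : Set G) := by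
      have : y = x⁻¹ * c := by rw [← hxyg]; group
      rw [this]
      exact mul_mem (inv_mem hxC) hc
    -- `x ∈ P`
    have hxP : x ∈ (P : Subgroup G) := by
      have hxp : IsPGroup p (Subgroup.zpowers x) := by
        obtain ⟨k, hk⟩ := hx
        exact IsPGroup.of_card (n := k) (by rw [Nat.card_zpowers, hk])
      have h1 : (P : Subgroup G) ≤ Subgroup.normalizer ((P : Subgroup G) : Set G) := Subgroup.le_normalizer
      have h2 : Subgroup.zpowers x ≤ Subgroup.normalizer ((P : Subgroup G) : Set G) := by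
        rw [Subgroup.zpowers_le]
        exact Subgroup.centralizer_le_normalizer _ hxC
      have h3 : IsPGroup p (Subgroup.zpowers x ⊔ (P : Subgroup G) : Subgroup G) :=
        IsPGroup.to_sup_of_normal_right' hxp P.2 h2
      have h4 := P.3 h3 le_sup_right
      rw [← h4]
      exact (le_sup_left : Subgroup.zpowers x ≤ _) (Subgroup.mem_zpowers x)
    rw [← hxyg, hker2 x (hPK hxP)]
    obtain ⟨z, hz⟩ : ∃ z ∈ (P : Subgroup G), z ≠ 1 := by
      have h1 : (P : Subgroup G) ≠ ⊥ := by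
        intro h
        have h2 : Nat.card (P : Subgroup G) = p := hP
        rw [h, Subgroup.card_bot] at h2
        exact hpp.one_lt.ne h2
      obtain ⟨z, hz⟩ := Subgroup.ne_bot_iff_exists_ne_one.1 h1
      exact ⟨z, z.2, fun h => hz (Subtype.ext h)⟩
    have hzy : Commute z y := (Subgroup.mem_centralizer_iff.1 hyC z hz.1)
    have h5 := CyclicOrtho.mul_eq P hP hM hz.1 hz.2 hzy hy hχ
    rw [hker2 z (hPK hz.1)] at h5
    rw [h5, hker z (hPK hz.1)]
  -- a constant irreducible character is trivial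
  by_contra hne
  have h0 : classInner (χ : G → ℂ) (1 : G → ℂ) = 0 :=
    Core.classInner_irr_ne χ.2 Core.isIrr_one fun h => hne (Subtype.ext h)
  have h1 : (χ : G → ℂ) = (χ : G → ℂ) 1 • (1 : G → ℂ) := by
    funext g
    rw [Pi.smul_apply, Pi.one_apply, smul_eq_mul, mul_one]
    exact hcv g
  rw [h1, Core.classInner_smul_left, Core.classInner_irr_self Core.isIrr_one, mul_one] at h0
  exact Core.isIrr_apply_one_ne_zero χ.2 h0

/-- **Two real degrees.** `P` a Sylow `p`-subgroup of order `p` (`p` odd) of `G`, `e = |N(P) : C(P)|` even, `N` a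
normal subgroup with `P ≤ N` and `N C(P) = G`: two different degrees of real irreducible characters not trivial
on `N`, the first `≡ ± 1` and the second `≡ ± e` modulo `p`. -/
theorem rd_two (hp2 : p ≠ 2) (P : Sylow p G) (hP : Nat.card P = p)
    {e : ℕ} (hee : (Subgroup.centralizer ((P : Subgroup G) : Set G)).relIndex
      (Subgroup.normalizer ((P : Subgroup G) : Set G)) = e) (he : Even e)
    (N : Subgroup G) [N.Normal] (hPN : (P : Subgroup G) ≤ N)
    (hN : N ⊔ Subgroup.centralizer ((P : Subgroup G) : Set G) = ⊤) :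
    ∃ a b : ℕ, a ≠ b ∧ H619.R4.RD G N a ∧ H619.R4.RD G N b ∧
      (∃ s : ℤ, (s = 1 ∨ s = -1) ∧ (p : ℤ) ∣ (a : ℤ) - s) ∧
      (∃ s : ℤ, (s = 1 ∨ s = -1) ∧ (p : ℤ) ∣ (b : ℤ) - s * e) := by
  obtain ⟨M, hM⟩ := ExistsModular.exists_isPModular hp.out
  obtain ⟨χ₁, h1, χ₂, h2, hr1, hr2, hn1, hn2, hne, hc1, hc2⟩ := two_real hM hp2 P hP hee he
  refine ⟨_, _, hne, ⟨χ₁, im_eq_zero hr1, ?_, rfl⟩, ⟨χ₂, im_eq_zero hr2, ?_, rfl⟩, hc1, hc2⟩
  · by_contra hcon
    push Not at hcon
    exact hn1 (eq_one_of_ker hM P hP hPN hN h1 hcon)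
  · by_contra hcon
    push Not at hcon
    exact hn2 (eq_one_of_ker hM P hP hPN hN h2 hcon)

theorem not_dvd_of_sign {a : ℕ} (h : ∃ s : ℤ, (s = 1 ∨ s = -1) ∧ (p : ℤ) ∣ (a : ℤ) - s) : ¬ p ∣ a := by
  rintro ⟨k, rfl⟩
  obtain ⟨s, hs, m, hm⟩ := h
  have h1 : (p : ℤ) ∣ 1 := by
    rcases hs with h | h <;> rw [h] at hm
    · exact ⟨k - m, by push_cast at hm; linarith⟩
    · exact ⟨m - k, by push_cast at hm; linarith⟩
  have h2 := Int.natAbs_dvd_natAbs.2 h1
  simp at h2
  exact hp.out.one_lt.ne' h2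

theorem not_dvd_of_sign_mul {a e : ℕ} (he : ¬ p ∣ e)
    (h : ∃ s : ℤ, (s = 1 ∨ s = -1) ∧ (p : ℤ) ∣ (a : ℤ) - s * e) : ¬ p ∣ a := by
  rintro ⟨k, rfl⟩
  obtain ⟨s, hs, m, hm⟩ := h
  apply he
  have h1 : (p : ℤ) ∣ e := by
    rcases hs with h | h <;> rw [h] at hm
    · exact ⟨k - m, by push_cast at hm; linarith⟩
    · exact ⟨m - k, by push_cast at hm; linarith⟩
  exact_mod_cast h1

end Cfsg.Agent.H625.RealStem
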